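import Groth.Agent.LinType.Basic

/-!
# Quasi-regularity of regular sequences on modules
-/

set_option autoImplicit false
set_option linter.style.haveILetI false

universe u

open Pointwise

namespace Groth.Agent.GradExt

/-- Elements of `span (range c) • ⊤` are combinations. -/
theorem exists_sum_of_mem_smul_top {R M : Type*} [CommRing R] [AddCommGroup M] [Module R M] {s : ℕ}
    (c : Fin s → R) {m : M} (hm : m ∈ Ideal.span (Set.range c) • (⊤ : Submodule R M)) :
    ∃ v : Fin s → M, ∑ j, c j • v j = m := by
  refine Submodule.smul_induction_on hm (fun a ha v _ => ?_) ?_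
  · obtain ⟨e, rfl⟩ := (Submodule.mem_span_range_iff_exists_fun R).1 ha
    refine ⟨fun j => e j • v, ?_⟩
    rw [Finset.sum_smul]
    exact Finset.sum_congr rfl fun j _ => by rw [smul_smul, smul_eq_mul, mul_comm]
  · rintro p q ⟨v, rfl⟩ ⟨w, rfl⟩
    exact ⟨v + w, by simp only [Pi.add_apply, smul_add, Finset.sum_add_distrib]⟩

/-- A combination of `b` deep in the filtration has coefficients in `JM`. -/
def Indep {A : Type u} [CommRing A] (J : Ideal A) (d : ℕ) {s : ℕ} (b : Fin s → A) {R : Type u} [CommRing R]
    (ψ : A →+* R) (M : Type u) [AddCommGroup M] [Module R M] : Prop :=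
  ∀ w : Fin s → M, ∑ j, ψ (b j) • w j ∈ J.map ψ ^ (d + 1) • (⊤ : Submodule R M) →
    ∀ j, w j ∈ J.map ψ • (⊤ : Submodule R M)

/-- A sequence regular on a module. -/
def RegOn {A : Type u} [CommRing A] {r : ℕ} (f : Fin r → A) {R : Type u} [CommRing R] (ψ : A →+* R)
    (M : Type u) [AddCommGroup M] [Module R M] : Prop :=
  ∀ (k : Fin r) (m : M), ψ (f k) • m ∈ (Ideal.span (f '' Set.Iio k)).map ψ • (⊤ : Submodule R M) →
    m ∈ (Ideal.span (f '' Set.Iio k)).map ψ • (⊤ : Submodule R M)

/-- Generators of the powers which are independent on every module on which the sequence is regular. -/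
theorem exists_indep_gens {A : Type u} [CommRing A] (r : ℕ) : ∀ (f : Fin r → A) (d : ℕ),
    ∃ (s : ℕ) (b : Fin s → A), Submodule.span A (Set.range b) = Ideal.span (Set.range f) ^ d ∧
      ∀ (R : Type u) [CommRing R] (ψ : A →+* R) (M : Type u) [AddCommGroup M] [Module R M],
        RegOn f ψ M → Indep (Ideal.span (Set.range f)) d b ψ M := by
  have hbase : ∀ (J : Ideal A), ∃ (s : ℕ) (b : Fin s → A), Submodule.span A (Set.range b) = J ^ 0 ∧
      ∀ (R : Type u) [CommRing R] (ψ : A →+* R) (M : Type u) [AddCommGroup M] [Module R M],
        Indep J 0 b ψ M := by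
    intro J
    refine ⟨1, fun _ => 1, ?_, fun R _ ψ M _ _ w hw j => ?_⟩
    · rw [pow_zero, Ideal.one_eq_top, Set.range_const]
      exact Ideal.span_singleton_one
    · rw [Fin.sum_univ_one, map_one, one_smul, zero_add, pow_one] at hw
      rwa [Subsingleton.elim j 0]
  induction r with
  | zero =>
    intro f d
    cases d with
    | zero =>
      obtain ⟨s, b, hb, h⟩ := hbase (Ideal.span (Set.range f))
      exact ⟨s, b, hb, fun R _ ψ M _ _ _ => h R ψ M⟩
    | succ d =>
      refine ⟨0, fun j => j.elim0, ?_, fun R _ ψ M _ _ _ w _ j => j.elim0⟩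
      rw [Set.range_eq_empty f, Ideal.span_empty, Set.range_eq_empty, Submodule.span_empty, pow_succ',
        Ideal.bot_mul]
  | succ r ih =>
    intro f d
    let g : Fin r → A := f ∘ Fin.castSucc
    let x : A := f (Fin.last r)
    let I : Ideal A := Ideal.span (Set.range g)
    let I' : Ideal A := Ideal.span (Set.range f)
    have hI' : I' = I ⊔ Ideal.span {x} := by
      refine (congrArg Ideal.span (show Set.range f = Set.range g ∪ {x} from ?_)).trans (Ideal.span_union _ _)
      ext y
      constructor
      · rintro ⟨i, rfl⟩
        induction i using Fin.lastCases with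
        | last => exact Or.inr rfl
        | cast i => exact Or.inl ⟨i, rfl⟩
      · rintro (⟨i, rfl⟩ | rfl)
        · exact ⟨_, rfl⟩
        · exact ⟨_, rfl⟩
    induction d with
    | zero =>
      obtain ⟨s, b, hb, h⟩ := hbase I'
      exact ⟨s, b, hb, fun R _ ψ M _ _ _ => h R ψ M⟩
    | succ d ihd =>
      obtain ⟨s, b, hb, hbI⟩ := ih g (d + 1)
      obtain ⟨t, c, hc, hcI⟩ := ihd
      refine ⟨s + t, Fin.append b (fun k => x * c k), ?_, fun R _ ψ M _ _ hreg w hw => ?_⟩
      · refine le_antisymm (Submodule.span_le.2 ?_) ?_
        · rintro _ ⟨j, rfl⟩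
          induction j using Fin.addCases with
          | left j =>
            rw [Fin.append_left]
            exact Ideal.pow_right_mono (show I ≤ I' from hI'.ge.trans' le_sup_left) _
              (hb.le (Submodule.subset_span ⟨j, rfl⟩))
          | right j =>
            rw [Fin.append_right, pow_succ']
            exact Ideal.mul_mem_mul (Ideal.subset_span ⟨_, rfl⟩) (hc.le (Submodule.subset_span ⟨j, rfl⟩))
        · show I' ^ (d + 1) ≤ _
          rw [hI']
          refine (LinType.pow_sup_succ I (Ideal.span {x}) d).trans (sup_le ?_ ?_)
          · rw [← hb]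
            exact Submodule.span_mono (by rintro _ ⟨j, rfl⟩; exact ⟨Fin.castAdd t j, Fin.append_left _ _ j⟩)
          · rw [← hI', mul_comm, Ideal.span_singleton_mul_le_iff]
            intro z hz
            obtain ⟨e, rfl⟩ := (Submodule.mem_span_range_iff_exists_fun A).1 (hc.ge hz)
            rw [Finset.mul_sum]
            refine Submodule.sum_mem _ fun k _ => ?_
            rw [mul_smul_comm]
            exact Submodule.smul_mem _ _ (Submodule.subset_span ⟨Fin.natAdd s k, Fin.append_right _ _ k⟩)
      · have himg : f '' Set.Iio (Fin.last r) = Set.range g := by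
          ext y
          constructor
          · rintro ⟨i, hi, rfl⟩
            induction i using Fin.lastCases with
            | last => exact absurd hi (lt_irrefl (Fin.last r))
            | cast i => exact ⟨i, rfl⟩
          · rintro ⟨i, rfl⟩
            exact ⟨_, Fin.castSucc_lt_last i, rfl⟩
        have hregg : RegOn g ψ M := fun k m => by
          have e : g '' Set.Iio k = f '' Set.Iio k.castSucc := by
            ext y
            constructor
            · rintro ⟨i, hi, rfl⟩
              exact ⟨_, Fin.castSucc_lt_castSucc_iff.2 hi, rfl⟩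
            · rintro ⟨i, hi, rfl⟩
              induction i using Fin.lastCases with
              | last => exact absurd ((Set.mem_Iio.1 hi).trans (Fin.castSucc_lt_last k)) (lt_irrefl (Fin.last r))
              | cast i => exact ⟨i, Fin.castSucc_lt_castSucc_iff.1 hi, rfl⟩
          rw [e]
          exact hreg k.castSucc m
        let K : Ideal R := I.map ψ
        let K' : Ideal R := I'.map ψ
        let X : R := ψ x
        have hK' : K' = K ⊔ Ideal.span {X} := by
          show I'.map ψ = _
          rw [hI', Ideal.map_sup, Ideal.map_span ψ {x}, Set.image_singleton]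
        have hXK' : X ∈ K' := hK'.ge (Ideal.mem_sup_right (Ideal.mem_span_singleton_self X))
        have hpowK : ∀ j, K ^ j • (⊤ : Submodule R M) ≤ K' ^ j • ⊤ := fun j =>
          Submodule.smul_mono_left (Ideal.pow_right_mono (hK'.ge.trans' le_sup_left) j)
        have hlast : ∀ m : M, X • m ∈ K • (⊤ : Submodule R M) → m ∈ K • (⊤ : Submodule R M) := by
          have := hreg (Fin.last r)
          rw [himg] at this
          exact this
        have hxreg : ∀ j (m : M), X • m ∈ K ^ (j + 1) • (⊤ : Submodule R M) → m ∈ K ^ (j + 1) • (⊤ : Submodule R M) := by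
          intro j
          induction j with
          | zero =>
            intro m hm
            rw [zero_add, pow_one] at hm ⊢
            exact hlast m hm
          | succ j ihj =>
            intro m hm
            have hm' := ihj m (Submodule.smul_mono_left (Ideal.pow_le_pow_right (by omega)) hm)
            obtain ⟨u, bb, hbb, hbbI⟩ := ih g (j + 1)
            have e : K ^ (j + 1) = Ideal.span (Set.range fun i => ψ (bb i)) := by
              rw [← Ideal.map_pow, ← hbb]
              exact Ideal.map_span ψ (Set.range bb) |>.trans (by rw [← Set.range_comp]; rfl)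
            rw [e] at hm'
            obtain ⟨v, rfl⟩ := exists_sum_of_mem_smul_top _ hm'
            have hv := hbbI R ψ M hregg (fun i => X • v i) (by
              rw [Finset.smul_sum] at hm
              simpa only [smul_comm X] using hm)
            refine Submodule.sum_mem _ fun i _ => ?_
            rw [pow_succ K (j + 1), Submodule.mul_smul]
            refine Submodule.smul_mem_smul (e.ge (Ideal.subset_span ⟨i, rfl⟩)) ?_
            have := hv i
            exact hlast (v i) this
        let g₁ : Fin s → M := fun j => w (Fin.castAdd t j)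
        let h₁ : Fin t → M := fun k => w (Fin.natAdd s k)
        let P : M := ∑ j, ψ (b j) • g₁ j
        let H : M := ∑ k, ψ (c k) • h₁ k
        have hsum : ∑ j, ψ (Fin.append b (fun k => x * c k) j) • w j = P + X • H := by
          rw [Fin.sum_univ_add]
          simp only [Fin.append_left, Fin.append_right, map_mul, mul_smul, Finset.smul_sum, P, H, g₁, h₁, X]
        rw [hsum] at hw
        have hsplit : K' ^ (d + 1 + 1) • (⊤ : Submodule R M) ≤
            K ^ (d + 1 + 1) • ⊤ ⊔ X • (K' ^ (d + 1) • (⊤ : Submodule R M)) := by
          rw [hK', ← Submodule.ideal_span_singleton_smul, ← Submodule.mul_smul, mul_comm (Ideal.span {X}),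
            ← Submodule.sup_smul]
          exact Submodule.smul_mono_left (LinType.pow_sup_succ K (Ideal.span {X}) (d + 1))
        obtain ⟨z, hz, q, hq, hzq⟩ := Submodule.mem_sup.1 (hsplit hw)
        obtain ⟨u, hu, rfl⟩ := (Submodule.mem_smul_pointwise_iff_exists _ _ _).1 hq
        have hbK : ∀ j, ψ (b j) ∈ K ^ (d + 1) := fun j => by
          rw [← Ideal.map_pow]
          exact Ideal.mem_map_of_mem _ (hb.le (Submodule.subset_span ⟨j, rfl⟩))
        have hPK : P ∈ K ^ (d + 1) • (⊤ : Submodule R M) :=
          Submodule.sum_mem _ fun j _ => Submodule.smul_mem_smul (hbK j) trivial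
        have hHu : X • (H - u) ∈ K ^ (d + 1) • (⊤ : Submodule R M) := by
          have e : X • (H - u) = z - P := by
            rw [smul_sub, sub_eq_sub_iff_add_eq_add, add_comm _ P]
            exact hzq.symm
          rw [e]
          exact sub_mem (Submodule.smul_mono_left (Ideal.pow_le_pow_right (by omega)) hz) hPK
        have hv := hxreg d _ hHu
        have hH : H ∈ K' ^ (d + 1) • (⊤ : Submodule R M) := by
          have := add_mem (hpowK _ hv) hu
          rwa [sub_add_cancel] at this
        have hh : ∀ k, h₁ k ∈ K' • (⊤ : Submodule R M) := hcI R ψ M hreg h₁ hH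
        have e : K ^ (d + 1) = Ideal.span (Set.range fun j => ψ (b j)) := by
          rw [← Ideal.map_pow, ← hb]
          exact Ideal.map_span ψ (Set.range b) |>.trans (by rw [← Set.range_comp]; rfl)
        rw [e] at hv
        obtain ⟨v, hv⟩ := exists_sum_of_mem_smul_top _ hv
        have hg := hbI R ψ M hregg (fun j => g₁ j + X • v j) (by
          have e2 : ∑ j, ψ (b j) • (g₁ j + X • v j) = z := by
            simp only [smul_add, Finset.sum_add_distrib, smul_comm _ X, ← Finset.smul_sum, hv]
            rw [smul_sub]
            calc P + (X • H - X • u) = (P + X • H) - X • u := by rw [add_sub_assoc]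
              _ = z := by rw [← hzq, add_sub_cancel_right]
          rw [e2]
          exact hz)
        intro j
        induction j using Fin.addCases with
        | left j =>
          have := sub_mem (Submodule.smul_mono_left (hK'.ge.trans' le_sup_left) (hg j))
            (Submodule.smul_mem_smul (n := v j) (N := (⊤ : Submodule R M)) hXK' Submodule.mem_top)
          rwa [add_sub_cancel_right] at this
        | right k => exact hh k

end Groth.Agent.GradExt
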