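import Groth.Agent.GradExt.FreeMod
import Groth.Agent.GradExt.QReg
import Groth.Prelude.Def_Algz2

/-!
# Canonical extensions from independence in the completed stalks
-/

set_option autoImplicit false
set_option linter.style.haveILetI false
set_option linter.unusedSectionVars false
set_option backward.isDefEq.respectTransparency false
set_option backward.isDefEq.respectTransparency.types false

universe u

open CategoryTheory CategoryTheory.Limits AlgebraicGeometry TopologicalSpace Opposite

noncomputable section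

namespace Groth.Agent.GradExt

open Groth.Agent Groth.Agent.PunctAlg

/-- A module killed by a power of the ideal is its own completion. -/
theorem bijective_of_of_kill {R M : Type u} [CommRing R] [AddCommGroup M] [Module R M] (K : Ideal R) (n : ℕ)
    (h : ∀ a ∈ K ^ n, ∀ m : M, a • m = 0) : Function.Bijective (AdicCompletion.of K M) := by
  have hb : ∀ k, n ≤ k → (K ^ k • ⊤ : Submodule R M) = ⊥ := fun k hk =>
    eq_bot_iff.2 (Submodule.smul_le.2 fun a ha m _ => (h a (Ideal.pow_le_pow_right hk ha) m).symm ▸ zero_mem _)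
  haveI : IsAdicComplete K M :=
    { haus' := fun x hx => by
        have := SModEq.zero.1 (hx n)
        rwa [hb n le_rfl, Submodule.mem_bot] at this
      prec' := fun f hf => ⟨f n, fun m => by
        rcases le_total m n with hm | hm
        · exact hf hm
        · have := (hf hm).symm
          rw [hb n le_rfl, SModEq.bot] at this
          rw [this]⟩ }
  exact AdicCompletion.of_bijective K M

section Limit

variable {A : Type u} [CommRing A] (N : ℕᵒᵖ ⥤ ModuleCat.{u} A)

theorem tr_refl_apply (n : ℕ) (v : N.obj (op n)) : ARSys.tr N (le_refl n) v = v := by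
  show N.map (homOfLE (le_refl n)).op v = v
  rw [Subsingleton.elim (homOfLE (le_refl n)) (𝟙 n), op_id, CategoryTheory.Functor.map_id]
  rfl

/-- Compatible families extending an element, along surjective transitions. -/
theorem exists_compatible (hsurj : ∀ m, Function.Surjective (ARSys.tr N (Nat.le_succ m)))
    (n : ℕ) (v : N.obj (op n)) :
    ∃ x : ∀ m, N.obj (op m), (∀ m, ARSys.tr N (Nat.le_succ m) (x (m + 1)) = x m) ∧ x n = v := by
  choose l hl using hsurj
  let z : ∀ j, N.obj (op (n + j)) := fun j => Nat.rec (motive := fun j => N.obj (op (n + j))) v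
    (fun j zj => l (n + j) zj) j
  have hz : ∀ j, ARSys.tr N (Nat.le_succ (n + j)) (z (j + 1)) = z j := fun j => hl (n + j) (z j)
  refine ⟨fun m => ARSys.tr N (show m ≤ n + m by omega) (z m), fun m => ?_, ?_⟩
  · rw [tr_trans_apply]
    refine Eq.trans ?_ (congrArg (ARSys.tr N (show m ≤ n + m by omega)) (hz m))
    exact (tr_trans_apply N _ _ _).symm
  · show ARSys.tr N (show n ≤ n + n by omega) (z n) = v
    have : ∀ j, ARSys.tr N (Nat.le_add_right n j) (z j) = v := by
      intro j
      induction j with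
      | zero => exact tr_refl_apply N n v
      | succ j ih =>
        rw [← ih, ← hz j]
        exact (tr_trans_apply N _ _ _).symm
    exact this n

/-- The kernel of a projection of the limit is generated by the power of the ideal. -/
theorem exists_div_compatible (J : Ideal A)
    (hkill : ∀ m, ∀ a ∈ J ^ (m + 1), ∀ z : N.obj (op m), a • z = 0)
    (hsurj : ∀ m, Function.Surjective (ARSys.tr N (Nat.le_succ m)))
    (hker : ∀ m (z : N.obj (op (m + 1))), ARSys.tr N (Nat.le_succ m) z = 0 →
      z ∈ J ^ (m + 1) • (⊤ : Submodule A (N.obj (op (m + 1)))))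
    {n r : ℕ} (a : Fin r → A) (ha : Ideal.span (Set.range a) = J ^ (n + 1))
    (x : ∀ m, N.obj (op m)) (hx : ∀ m, ARSys.tr N (Nat.le_succ m) (x (m + 1)) = x m) (h0 : x n = 0) :
    ∃ y : Fin r → ∀ m, N.obj (op m), (∀ i m, ARSys.tr N (Nat.le_succ m) (y i (m + 1)) = y i m) ∧
      ∀ m, ∑ i, a i • y i m = x m := by
  classical
  have hstep : ∀ j (z : Fin r → N.obj (op (n + j))), ∑ i, a i • z i = x (n + j) →
      ∃ z' : Fin r → N.obj (op (n + (j + 1))), ∑ i, a i • z' i = x (n + (j + 1)) ∧
        ∀ i, ARSys.tr N (Nat.le_succ (n + j)) (z' i) - z i ∈ J ^ j • (⊤ : Submodule A (N.obj (op (n + j)))) := by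
    intro j z hz
    choose l hl using fun i => hsurj (n + j) (z i)
    have hd : ARSys.tr N (Nat.le_succ (n + j)) (x (n + j + 1) - ∑ i, a i • l i) = 0 := by
      rw [map_sub, hx, map_sum, sub_eq_zero, ← hz]
      exact Finset.sum_congr rfl fun i _ => by rw [map_smul, hl]
    have hmem := hker (n + j) _ hd
    have e : J ^ (n + j + 1) = Ideal.span (Set.range a) * J ^ j := by
      rw [ha, ← pow_add, show n + j + 1 = (n + 1) + j by omega]
    rw [e, Submodule.mul_smul] at hmem
    obtain ⟨e, heM, he⟩ : ∃ e : Fin r → N.obj (op (n + j + 1)),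
        (∀ i, e i ∈ J ^ j • (⊤ : Submodule A (N.obj (op (n + j + 1))))) ∧
          ∑ i, a i • e i = x (n + j + 1) - ∑ i, a i • l i := by
      refine Submodule.smul_induction_on hmem (fun c hc v hv => ?_) ?_
      · obtain ⟨k, rfl⟩ := (Submodule.mem_span_range_iff_exists_fun A).1 hc
        refine ⟨fun i => k i • v, fun i => Submodule.smul_mem _ _ hv, ?_⟩
        rw [Finset.sum_smul]
        exact Finset.sum_congr rfl fun i _ => by rw [smul_smul, smul_eq_mul, mul_comm]
      · rintro p q ⟨e₁, h₁, rfl⟩ ⟨e₂, h₂, rfl⟩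
        exact ⟨e₁ + e₂, fun i => add_mem (h₁ i) (h₂ i),
          by simp only [Pi.add_apply, smul_add, Finset.sum_add_distrib]⟩
    refine ⟨fun i => l i + e i, ?_, fun i => ?_⟩
    · simp only [smul_add, Finset.sum_add_distrib, he]
      exact add_sub_cancel _ _
    · rw [map_add, hl, add_sub_cancel_left]
      have := Submodule.mem_map_of_mem (f := (ARSys.tr N (Nat.le_succ (n + j))).hom) (heM i)
      rw [Submodule.map_smul''] at this
      exact Submodule.smul_mono le_rfl le_top this
  choose f hf₁ hf₂ using hstep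
  let Z : ∀ j, {z : Fin r → N.obj (op (n + j)) // ∑ i, a i • z i = x (n + j)} := fun j =>
    Nat.rec (motive := fun j => {z : Fin r → N.obj (op (n + j)) // ∑ i, a i • z i = x (n + j)})
      ⟨0, by simp only [Pi.zero_apply, smul_zero, Finset.sum_const_zero]; exact h0.symm⟩
      (fun j z => ⟨f j z.1 z.2, hf₁ j z.1 z.2⟩) j
  have hxtr : ∀ {p q : ℕ} (h : p ≤ q), ARSys.tr N h (x q) = x p := by
    intro p q h
    induction q, h using Nat.le_induction with
    | base => exact tr_refl_apply N p (x p)
    | succ q hq ih =>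
      rw [← tr_trans_apply N hq (Nat.le_succ q), hx, ih]
  refine ⟨fun i m => ARSys.tr N (show m ≤ n + (m + 1) by omega) ((Z (m + 1)).1 i), fun i m => ?_, fun m => ?_⟩
  · have hd : ARSys.tr N (show m ≤ n + (m + 1) by omega)
        (ARSys.tr N (Nat.le_succ (n + (m + 1))) ((Z (m + 1 + 1)).1 i) - (Z (m + 1)).1 i) = 0 := by
      refine Submodule.smul_induction_on (hf₂ (m + 1) (Z (m + 1)).1 (Z (m + 1)).2 i) (fun c hc v _ => ?_) ?_
      · rw [map_smul, hkill m c hc]
      · intro p q hp hq
        rw [map_add, hp, hq, add_zero]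
    rw [map_sub, sub_eq_zero] at hd
    rw [tr_trans_apply]
    refine Eq.trans ?_ hd
    exact (tr_trans_apply N _ _ _).symm
  · rw [← hxtr (show m ≤ n + (m + 1) by omega), ← (Z (m + 1)).2, map_sum]
    exact Finset.sum_congr rfl fun i _ => (map_smul _ _ _).symm

end Limit

variable {A : Type u} [CommRing A] (U : (Spec (CommRingCat.of A)).Opens)

/-- The stalks of a system, as modules over the base. -/
abbrev stalkSys (G : ℕᵒᵖ ⥤ (U : Scheme.{u}).Modules) (x : U.toScheme) : ℕᵒᵖ ⥤ ModuleCat.{u} A :=
  G ⋙ DerSch.stalkFunctor U.toScheme x ⋙ ModuleCat.restrictScalars (LefPunct2.gHom U x)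

/-- The map from the base to the completed local ring. -/
abbrev hatHom (I : Ideal A) (x : U.toScheme) : A →+* Algz.hatRing I x :=
  (algebraMap (U.toScheme.presheaf.stalk x) (Algz.hatRing I x)).comp (Algz.toStalk A U.toScheme x)

theorem toStalk_eq (x : U.toScheme) : Algz.toStalk A U.toScheme x = LefPunct2.gHom U x := rfl

theorem mem_smul_top_restrict (K : Ideal A) (M : U.toScheme.Modules) (x : U.toScheme)
    (v : (DerSch.stalkFunctor U.toScheme x).obj M)
    (hv : v ∈ K.map (LefPunct2.gHom U x) •
      (⊤ : Submodule (U.toScheme.presheaf.stalk x) ((DerSch.stalkFunctor U.toScheme x).obj M))) :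
    (show (ModuleCat.restrictScalars (LefPunct2.gHom U x)).obj ((DerSch.stalkFunctor U.toScheme x).obj M) from v) ∈
      K • (⊤ : Submodule A
        ((ModuleCat.restrictScalars (LefPunct2.gHom U x)).obj ((DerSch.stalkFunctor U.toScheme x).obj M))) := by
  let M' := (ModuleCat.restrictScalars (LefPunct2.gHom U x)).obj ((DerSch.stalkFunctor U.toScheme x).obj M)
  suffices key : ∀ c ∈ K.map (LefPunct2.gHom U x), ∀ w : (DerSch.stalkFunctor U.toScheme x).obj M,
      (show M' from c • w) ∈ K • (⊤ : Submodule A M') by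
    exact Submodule.smul_induction_on hv (fun c hc w _ => key c hc w) fun p q hp hq => add_mem hp hq
  intro c hc
  unfold Ideal.map at hc
  induction hc using Submodule.span_induction with
  | mem c hc =>
    obtain ⟨a, ha, rfl⟩ := hc
    intro w
    exact Submodule.smul_mem_smul (n := (show M' from w)) ha Submodule.mem_top
  | zero => intro w; rw [zero_smul]; exact zero_mem _
  | add p q _ _ hp hq => intro w; rw [add_smul]; exact add_mem (hp w) (hq w)
  | smul t c _ ih => intro w; rw [smul_eq_mul, mul_comm, mul_smul]; exact ih (t • w)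

variable [IsNoetherianRing A] {I J : Ideal A} {G : ℕᵒᵖ ⥤ (U : Scheme.{u}).Modules}

theorem subsingleton_stalk (hG : Formal.IsCohFormal I G) {x : U.toScheme} (hx : ¬ I ≤ (U.ι x).asIdeal) (k : ℕ) :
    Subsingleton ((DerSch.stalkFunctor U.toScheme x).obj (G.obj (op k))) := by
  obtain ⟨c, hc, hcx⟩ := Set.not_subset.1 hx
  refine subsingleton_of_forall_eq 0 fun v => ?_
  have hu := isUnit_germA U x (c ^ (k + 1)) fun h => hcx ((U.ι x).2.mem_of_pow_mem _ h)
  refine hu.smul_left_cancel.1 ?_
  rw [smul_zero]
  refine (stalk_smulMod U _ (c ^ (k + 1)) x v).symm.trans ?_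
  rw [hG.2.1 k _ (Ideal.pow_mem_pow hc _), Functor.map_zero]
  rfl

theorem mem_smul_top_of_ρ_eq_zero (hG : Formal.IsCohFormal I G) (x : U.toScheme) (k : ℕ)
    (v : (DerSch.stalkFunctor U.toScheme x).obj (G.obj (op (k + 1))))
    (hv : (DerSch.stalkFunctor U.toScheme x).map (ρ G k) v = 0) :
    v ∈ (I ^ (k + 1)).map (LefPunct2.gHom U x) •
      (⊤ : Submodule (U.toScheme.presheaf.stalk x) ((DerSch.stalkFunctor U.toScheme x).obj (G.obj (op (k + 1))))) := by
  obtain ⟨h, hiso⟩ := hG.2.2 k
  haveI := hiso
  let e := cokernel.desc _ _ h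
  refine mem_smul_top_of_modPowπ_eq_zero U I (k + 1) _ x v ?_
  refine (ConcreteCategory.bijective_of_isIso ((DerSch.stalkFunctor U.toScheme x).map e)).1 ?_
  refine Eq.trans ?_ (hv.trans (map_zero _).symm)
  show ((DerSch.stalkFunctor U.toScheme x).map (Formal.modPowπ I (k + 1) _) ≫
    (DerSch.stalkFunctor U.toScheme x).map e) v = _
  rw [← Functor.map_comp]
  congr 3
  exact cokernel.π_desc _ _ h

/-- Independence in the completed stalk descends to the levels. -/
theorem indep_level (hG : Formal.IsCohFormal I G) (hJI : J ≤ I) (x : U.toScheme)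
    (hIJ : I.map (LefPunct2.gHom U x) = J.map (LefPunct2.gHom U x)) {n s : ℕ} (b : Fin s → A)
    (hind : Indep J (n + 1) b (hatHom U I x) ↥(Algz.hatStalk I G x))
    (w : Fin s → (DerSch.stalkFunctor U.toScheme x).obj (G.obj (op (n + 1))))
    (hw : ∑ j, germA U x (b j) • w j = 0) :
    ∀ j, (DerSch.stalkFunctor U.toScheme x).map (ARSys.tr G (Nat.zero_le (n + 1))) (w j) = 0 := by
  classical
  let S := DerSch.stalkFunctor U.toScheme x
  let N := stalkSys U G x
  let K := Algz.stalkIdeal I x
  have hkill : ∀ m, ∀ c ∈ K ^ (m + 1), ∀ v : (G.obj (op m)).presheaf.stalk x, c • v = 0 := by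
    intro m c hc
    rw [show K ^ (m + 1) = (I ^ (m + 1)).map (LefPunct2.gHom U x) from (Ideal.map_pow _ _ _).symm] at hc
    have hle : (I ^ (m + 1)).map (LefPunct2.gHom U x) ≤
        Module.annihilator (U.toScheme.presheaf.stalk x) (S.obj (G.obj (op m))) := by
      refine Ideal.map_le_iff_le_comap.2 fun a ha => Module.mem_annihilator.2 fun z => ?_
      show germA U x a • z = 0
      rw [← stalk_smulMod, hG.2.1 m a ha, Functor.map_zero]
      rfl
    exact fun v => Module.mem_annihilator.1 (hle hc) v
  have hbij : ∀ m, Function.Bijective (AdicCompletion.of K ((G.obj (op m)).presheaf.stalk x)) :=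
    fun m => bijective_of_of_kill K (m + 1) (hkill m)
  have hsurj : ∀ m, Function.Surjective (ARSys.tr N (Nat.le_succ m)) := fun m => by
    haveI := Algz7.epi_step hG m
    have h : Epi (S.map (ρ G m)) := inferInstance
    exact (ModuleCat.epi_iff_surjective (S.map (ρ G m))).1 h
  have hkerN : ∀ m (z : N.obj (op (m + 1))), ARSys.tr N (Nat.le_succ m) z = 0 →
      z ∈ J ^ (m + 1) • (⊤ : Submodule A (N.obj (op (m + 1)))) := fun m z hz => by
    have h := mem_smul_top_of_ρ_eq_zero U hG x m (show S.obj (G.obj (op (m + 1))) from z) hz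
    rw [Ideal.map_pow, hIJ, ← Ideal.map_pow] at h
    exact mem_smul_top_restrict U (J ^ (m + 1)) _ x z h
  have hkillN : ∀ m, ∀ a ∈ J ^ (m + 1), ∀ z : N.obj (op m), a • z = 0 := fun m a ha z =>
    hkill m _ (by
      rw [show K ^ (m + 1) = (I ^ (m + 1)).map (LefPunct2.gHom U x) from (Ideal.map_pow _ _ _).symm]
      exact Ideal.mem_map_of_mem _ (Ideal.pow_right_mono hJI _ ha)) z
  let mk : ∀ (u : ∀ m, N.obj (op m)), (∀ m, ARSys.tr N (Nat.le_succ m) (u (m + 1)) = u m) →
      ↥(Algz.hatStalk I G x) := fun u hu =>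
    ⟨fun m => AdicCompletion.of K ((G.obj (op m)).presheaf.stalk x) (u m), fun m =>
      (AdicCompletion.map_of K (Algz.stalkMapₗ (G.map (homOfLE (Nat.le_succ m)).op) x) (u (m + 1))).trans (congrArg _ (hu m))⟩
  have hmk : ∀ (a : A) (m : ℕ) (v : (G.obj (op m)).presheaf.stalk x),
      hatHom U I x a • AdicCompletion.of K ((G.obj (op m)).presheaf.stalk x) v =
        AdicCompletion.of K ((G.obj (op m)).presheaf.stalk x) (LefPunct2.gHom U x a • v) := fun a m v => by
    rw [map_smul]
    exact algebraMap_smul (Algz.hatRing I x) (LefPunct2.gHom U x a) _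
  choose u hu hun using fun j => exists_compatible N hsurj (n + 1) (w j)
  obtain ⟨r, a, ha⟩ := Submodule.fg_iff_exists_fin_generating_family.1 (IsNoetherian.noetherian (J ^ (n + 1 + 1)))
  obtain ⟨y, hy, hyX⟩ := exists_div_compatible N J hkillN hsurj hkerN a ha (fun m => ∑ j, b j • u j m)
    (fun m => by rw [map_sum]; exact Finset.sum_congr rfl fun j _ => by rw [map_smul, hu])
    (by
      show ∑ j, b j • u j (n + 1) = 0
      simp only [hun]
      exact hw)
  have hX : ∑ j, hatHom U I x (b j) • mk (u j) (hu j) ∈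
      J.map (hatHom U I x) ^ (n + 1 + 1) • (⊤ : Submodule (Algz.hatRing I x) ↥(Algz.hatStalk I G x)) := by
    have e : ∑ j, hatHom U I x (b j) • mk (u j) (hu j) = ∑ i, hatHom U I x (a i) • mk (y i) (hy i) := by
      refine Subtype.ext (funext fun m => ?_)
      simp only [Submodule.coe_sum, Finset.sum_apply, Submodule.coe_smul, Pi.smul_apply, mk, hmk]
      rw [← map_sum, ← map_sum]
      exact congrArg _ (hyX m).symm
    rw [e]
    refine Submodule.sum_mem _ fun i _ => Submodule.smul_mem_smul ?_ Submodule.mem_top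
    rw [← Ideal.map_pow]
    exact Ideal.mem_map_of_mem _ (ha.le (Submodule.subset_span ⟨i, rfl⟩))
  intro j
  have h0 : ∀ v : ↥(Algz.hatStalk I G x),
      v ∈ J.map (hatHom U I x) • (⊤ : Submodule (Algz.hatRing I x) ↥(Algz.hatStalk I G x)) → v.1 0 = 0 := by
    intro v hv
    refine Submodule.smul_induction_on hv (fun c hc v _ => ?_) fun p q hp hq => ?_
    · have hle : J.map (hatHom U I x) ≤ Module.annihilator (Algz.hatRing I x)
          (AdicCompletion K ((G.obj (op 0)).presheaf.stalk x)) := by
        refine Ideal.map_le_iff_le_comap.2 fun a ha => Module.mem_annihilator.2 fun z => ?_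
        obtain ⟨v, rfl⟩ := (hbij 0).2 z
        rw [hmk, hkill 0 _ (by
          rw [zero_add, pow_one]
          exact Ideal.mem_map_of_mem _ (hJI ha)), map_zero]
      rw [Submodule.coe_smul, Pi.smul_apply]
      exact Module.mem_annihilator.1 (hle hc) _
    · rw [Submodule.coe_add, Pi.add_apply, hp, hq, add_zero]
  have h1 : u j 0 = 0 := (hbij 0).1 ((h0 _ (hind _ hX j)).trans (map_zero _).symm)
  have htr : ∀ m, ARSys.tr N (Nat.zero_le m) (u j m) = u j 0 := by
    intro m
    induction m with
    | zero => exact tr_refl_apply N 0 (u j 0)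
    | succ m ih => rw [← tr_trans_apply N (Nat.zero_le m) (Nat.le_succ m), hu, ih]
  rw [← hun j]
  exact (htr (n + 1)).trans h1

/-- A system for `I` is a system for a smaller ideal with the same stalks along the zero locus. -/
theorem isCohFormal_of_le (hG : Formal.IsCohFormal I G) (hJI : J ≤ I)
    (hloc : ∀ x : U.toScheme, I ≤ (U.ι x).asIdeal → I.map (LefPunct2.gHom U x) = J.map (LefPunct2.gHom U x)) :
    Formal.IsCohFormal J G := by
  refine ⟨hG.1, fun k a ha => hG.2.1 k a (Ideal.pow_right_mono hJI _ ha), fun k => ?_⟩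
  obtain ⟨h, hiso⟩ := hG.2.2 k
  have h' : Formal.smulFamily (J ^ (k + 1)) (G.obj (op (k + 1))) ≫ ρ G k = 0 := by
    apply Sigma.hom_ext
    rintro ⟨a, ha⟩
    rw [comp_zero, ← Category.assoc, Formal.smulFamily, Sigma.ι_desc, Algz7.smulMod_naturality,
      hG.2.1 k a (Ideal.pow_right_mono hJI _ ha), comp_zero]
  refine ⟨h', ?_⟩
  haveI := Algz7.epi_step hG k
  haveI : Epi (cokernel.desc _ _ h') := by
    haveI : Epi (cokernel.π (Formal.smulFamily (J ^ (k + 1)) (G.obj (op (k + 1)))) ≫ cokernel.desc _ _ h') := by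
      rw [cokernel.π_desc]
      infer_instance
    exact epi_of_epi (cokernel.π (Formal.smulFamily (J ^ (k + 1)) (G.obj (op (k + 1))))) _
  haveI : Mono (cokernel.desc _ _ h') := HomShX.mono_of_stalk _ fun x => (injective_iff_map_eq_zero _).2 fun v hv => by
    let S := DerSch.stalkFunctor U.toScheme x
    obtain ⟨w, rfl⟩ := stalk_modPowπ_surjective' U J (k + 1) (G.obj (op (k + 1))) x v
    have hw : S.map (ρ G k) w = 0 := by
      rw [show ρ G k = Formal.modPowπ J (k + 1) (G.obj (op (k + 1))) ≫ cokernel.desc _ _ h' from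
        (cokernel.π_desc _ _ h').symm, Functor.map_comp, ConcreteCategory.comp_apply]
      exact hv
    by_cases hx : I ≤ (U.ι x).asIdeal
    · have hmem := mem_smul_top_of_ρ_eq_zero U hG x k w hw
      rw [Ideal.map_pow, hloc x hx, ← Ideal.map_pow] at hmem
      refine Submodule.smul_induction_on hmem (fun c hc z _ => ?_) fun p q hp hq => by rw [map_add, hp, hq, add_zero]
      have hle : (J ^ (k + 1)).map (LefPunct2.gHom U x) ≤ Module.annihilator (U.toScheme.presheaf.stalk x)
          (S.obj (Formal.modPow J (k + 1) (G.obj (op (k + 1))))) := by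
        refine Ideal.map_le_iff_le_comap.2 fun a ha => Module.mem_annihilator.2 fun z => ?_
        obtain ⟨z, rfl⟩ := stalk_modPowπ_surjective' U J (k + 1) (G.obj (op (k + 1))) x z
        show germA U x a • S.map (Formal.modPowπ J (k + 1) _) z = 0
        rw [← map_smul, ← stalk_smulMod]
        show (S.map (Formal.smulMod A _ a) ≫ S.map (Formal.modPowπ J (k + 1) _)) z = 0
        rw [← Functor.map_comp, show Formal.smulMod A (G.obj (op (k + 1))) a =
          Sigma.ι (fun _ : ↥(J ^ (k + 1)) => G.obj (op (k + 1))) ⟨a, ha⟩ ≫ Formal.smulFamily (J ^ (k + 1)) _ from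
            (Sigma.ι_desc (fun b : ↥(J ^ (k + 1)) => Formal.smulMod A (G.obj (op (k + 1))) (b : A)) ⟨a, ha⟩).symm, Category.assoc, show Formal.smulFamily (J ^ (k + 1)) (G.obj (op (k + 1))) ≫
              Formal.modPowπ J (k + 1) _ = 0 from cokernel.condition _, comp_zero, Functor.map_zero]
        rfl
      rw [map_smul]
      exact Module.mem_annihilator.1 (hle hc) _
    · haveI := subsingleton_stalk U hG hx (k + 1)
      rw [Subsingleton.elim w 0, map_zero]
  exact isIso_of_mono_of_epi _

/-- The kernels are spanned as soon as the generators are independent on the stalks. -/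
theorem isSpanned_of_indep (hG : Formal.IsCohFormal J G)
    (hind : ∀ n, ∃ (s : ℕ) (b : Fin s → ↥(J ^ (n + 1))), Submodule.span A (Set.range b) = ⊤ ∧
      ∀ (x : U.toScheme) (w : Fin s → (DerSch.stalkFunctor U.toScheme x).obj (G.obj (op (n + 1)))),
        ∑ j, germA U x (b j) • w j = 0 →
          ∀ j, (DerSch.stalkFunctor U.toScheme x).map (ARSys.tr G (Nat.zero_le (n + 1))) (w j) = 0) :
    IsSpanned hG := by
  intro n
  classical
  obtain ⟨s, b, hb, hi⟩ := hind n
  let G0 : (U : Scheme.{u}).Modules := G.obj (op 0)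
  let P : Fin s → (U : Scheme.{u}).Modules := fun _ => G0
  let Ψ : (⨁ P) ⟶ K G n := biproduct.desc fun j => psi hG n (b j)
  haveI : Epi Ψ := ⟨fun f g h => hom_ext_K hG b hb fun j => by
    rw [← biproduct.ι_desc (fun j => psi hG n (b j)) j, Category.assoc, Category.assoc]
    exact congrArg (biproduct.ι P j ≫ ·) h⟩
  haveI : Mono Ψ := HomShX.mono_of_stalk _ fun x => (injective_iff_map_eq_zero _).2 fun v hv => by
    let S := DerSch.stalkFunctor U.toScheme x
    let v' : Fin s → S.obj G0 := fun j => S.map (biproduct.π P j) v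
    haveI := Algz7.epi_tr hG (Nat.zero_le (n + 1))
    have htr : Function.Surjective (S.map (ARSys.tr G (Nat.zero_le (n + 1)))) :=
      (ModuleCat.epi_iff_surjective _).1 inferInstance
    choose w hw using fun j => htr (v' j)
    have hsum : ∑ j, S.map (psi hG n (b j)) (v' j) = 0 := by
      refine Eq.trans ?_ hv
      show _ = S.map Ψ v
      rw [show Ψ = ∑ j, biproduct.π P j ≫ psi hG n (b j) from biproduct.desc_eq, Functor.map_sum]
      simp [v', S]
      rfl
    have hrel : ∑ j, germA U x (b j : A) • w j = 0 := by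
      have h := congrArg (S.map (incK G n)) hsum
      rw [map_sum, map_zero] at h
      refine Eq.trans (Finset.sum_congr rfl fun j _ => ?_) h
      rw [← hw j, ← ConcreteCategory.comp_apply, ← ConcreteCategory.comp_apply, ← Functor.map_comp,
        ← Functor.map_comp, tr_psi]
      exact (stalk_smulMod U _ _ x (w j)).symm
    have hz : ∀ j, v' j = 0 := fun j => (hw j).symm.trans (hi x w hrel j)
    have hid : S.map (∑ j, biproduct.π P j ≫ biproduct.ι P j) v = v := by
      rw [biproduct.total, CategoryTheory.Functor.map_id]; rfl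
    rw [← hid, Functor.map_sum]
    show (∑ j, S.map (biproduct.π P j ≫ biproduct.ι P j)).hom v = 0
    rw [ModuleCat.hom_sum, LinearMap.sum_apply]
    refine Finset.sum_eq_zero fun j _ => ?_
    show S.map (biproduct.π P j ≫ biproduct.ι P j) v = 0
    rw [Functor.map_comp, ConcreteCategory.comp_apply]
    exact (congrArg _ (hz j)).trans (map_zero _)
  haveI : IsIso Ψ := isIso_of_mono_of_epi Ψ
  refine ⟨s, b, fun j => inv Ψ ≫ biproduct.π P j, ?_⟩
  simp only [Category.assoc]
  rw [← Preadditive.comp_sum, ← biproduct.desc_eq]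
  exact IsIso.inv_hom_id Ψ

/-- A spanned system with finite bottom cohomology canonically extends. -/
theorem canonicallyExtends_of_spanned (hG : Formal.IsCohFormal I G) (hJI : J ≤ I) (hJ : Formal.IsCohFormal J G)
    (h : IsSpanned hJ) (h0 : Module.Finite A (Coh.HH (U : Scheme.{u}) (G.obj (op 0)) 0))
    (h1 : Module.Finite A (Coh.HH (U : Scheme.{u}) (G.obj (op 0)) 1)) :
    Algz.CanonicallyExtends A I U G := by
  obtain ⟨r, a, ha⟩ : ∃ (r : ℕ) (a : Fin r → J), Submodule.span A (Set.range fun i => (a i : A)) = J := by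
    obtain ⟨r, f, hf⟩ := Submodule.fg_iff_exists_fin_generating_family.1 (IsNoetherian.noetherian J)
    exact ⟨r, fun i => ⟨f i, hf.le (Submodule.subset_span ⟨i, rfl⟩)⟩, hf⟩
  haveI : Module.Finite A ((secF U).obj (G.obj (op 0))) :=
    Module.Finite.equiv (PunctAlg.h0 U (G.obj (op 0)))
  obtain ⟨d, hd⟩ := ker_π_le U hJ a ha h ‹_›
  refine Algz7.canonicallyExtends_of_isML I U G hG (isML U hJ a ha h h1)
    (fun k => ⟨d + k, (hd k).trans (Submodule.smul_mono_left (Ideal.pow_right_mono hJI k))⟩) fun n => ?_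
  haveI : Module.Finite A ((Algz.sectMod A U G).obj (op n)) := finite_levels U hJ a ha h ‹_› n
  exact Module.Finite.iff_fg.2 (IsNoetherian.noetherian _)

/-- Canonical extension from independent generators of the powers of an ideal. -/
theorem canonicallyExtends_of_indep (hG : Formal.IsCohFormal I G) (hJI : J ≤ I)
    (hloc : ∀ x : U.toScheme, I ≤ (U.ι x).asIdeal → I.map (LefPunct2.gHom U x) = J.map (LefPunct2.gHom U x))
    (hind : ∀ n, ∃ (s : ℕ) (b : Fin s → A), Submodule.span A (Set.range b) = J ^ (n + 1) ∧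
      ∀ x : U.toScheme, I ≤ (U.ι x).asIdeal → Indep J (n + 1) b (hatHom U I x) ↥(Algz.hatStalk I G x))
    (h0 : Module.Finite A (Coh.HH (U : Scheme.{u}) (G.obj (op 0)) 0))
    (h1 : Module.Finite A (Coh.HH (U : Scheme.{u}) (G.obj (op 0)) 1)) :
    Algz.CanonicallyExtends A I U G := by
  have hJ := isCohFormal_of_le U hG hJI hloc
  refine canonicallyExtends_of_spanned U hG hJI hJ (isSpanned_of_indep U hJ fun n => ?_) h0 h1
  obtain ⟨s, b, hb, hx⟩ := hind n
  refine ⟨s, fun j => ⟨b j, hb.le (Submodule.subset_span ⟨j, rfl⟩)⟩, ?_, fun x w hw => ?_⟩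
  · apply Submodule.map_injective_of_injective (J ^ (n + 1)).injective_subtype
    rw [Submodule.map_span, ← Set.range_comp, Submodule.map_top, Submodule.range_subtype]
    exact hb
  · by_cases hxI : I ≤ (U.ι x).asIdeal
    · exact indep_level U hG hJI x (hloc x hxI) b (hx x hxI) w hw
    · haveI := subsingleton_stalk U hG hxI 0
      exact fun j => Subsingleton.elim _ _

end Groth.Agent.GradExt
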