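import Groth.Agent.PunctAlg.Finite
import Groth.Agent.PunctAlg.Sys
import Groth.Agent.Adic7.Basic
import Groth.Agent.FFun.Basic
import Groth.Prelude.Def_Formal

/-!
# Cohomology and formal limits along a regular element
-/

set_option autoImplicit false
set_option linter.style.haveILetI false
set_option linter.unusedSectionVars false
set_option backward.isDefEq.respectTransparency false
set_option backward.isDefEq.respectTransparency.types false

universe u

open CategoryTheory CategoryTheory.Limits AlgebraicGeometry TopologicalSpace Opposite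
open CategoryTheory.Abelian

noncomputable section

namespace Groth.Agent.GradExt

open Groth.Agent Groth.Agent.PunctAlg

variable {A : Type u} [CommRing A] {X : Scheme.{u}} [X.Over (Spec (CommRingCat.of A))]

theorem exists_of_map_eq_zero {Y : TopCat.{u}} {T : ShortComplex (CohTop.Ab Y)} (hT : T.ShortExact) (n : ℕ)
    (x : CohTop.H T.X₂ n) (h : Sheaf.H.map T.g n x = 0) : ∃ y, Sheaf.H.map T.f n y = x :=
  Ext.covariant_sequence_exact₂ _ hT x h

/-- Exactness in the middle of the long sequence. -/
theorem exists_of_mapLin_eq_zero {S : ShortComplex X.Modules} (hS : S.ShortExact) (n : ℕ)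
    {x : Coh.HH X S.X₂ n} (h : PnCoh.Finite.mapLin A S.g n x = 0) :
    ∃ y, PnCoh.Finite.mapLin A S.f n y = x :=
  exists_of_map_eq_zero (Y := X.toPresheafedSpace.carrier) (QCoh.toAb_shortExact hS) n x h

theorem δ_natural' {S T : ShortComplex X.Modules} (hS : S.ShortExact) (hT : T.ShortExact) (φ : S ⟶ T) (n : ℕ)
    (x : Coh.HH X S.X₃ n) :
    PnCoh.Finite.deltaLin A hT n (PnCoh.Finite.mapLin A φ.τ₃ n x) =
      PnCoh.Finite.mapLin A φ.τ₁ (n + 1) (PnCoh.Finite.deltaLin A hS n x) :=
  (QCoh.Ab.connecting_naturality (X := X.toPresheafedSpace.carrier)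
    (QCoh.toAb_shortExact hS) (QCoh.toAb_shortExact hT)
    ((QCoh.toAbFunctor X).mapShortComplex.map φ) n x).symm

variable (t : A) (M : X.Modules)

theorem smul_modPowπ (k : ℕ) :
    Formal.smulMod A M (t ^ k) ≫ Formal.modPowπ (Ideal.span {t}) k M = 0 :=
  Algz7.smulMod_comp_eq_zero (φ := Formal.modPowπ (Ideal.span {t}) k M) (cokernel.condition _)
    (Ideal.pow_mem_pow (Ideal.mem_span_singleton_self t) k)

/-- `0 → M → M → M/t^(k+1) → 0`. -/
abbrev tSeq (k : ℕ) : ShortComplex X.Modules :=
  ShortComplex.mk (Formal.smulMod A M (t ^ (k + 1))) (Formal.modPowπ (Ideal.span {t}) (k + 1) M)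
    (smul_modPowπ t M (k + 1))

theorem tSeq_shortExact [Mono (Formal.smulMod A M t)] (k : ℕ) : (tSeq t M k).ShortExact := by
  haveI : ∀ j, Mono (Formal.smulMod A M (t ^ j)) := by
    intro j
    induction j with
    | zero => rw [pow_zero, PunctAlg.smulMod_one]; infer_instance
    | succ j ih => rw [pow_succ, PunctAlg.smulMod_mul]; infer_instance
  haveI : Epi (Formal.modPowπ (Ideal.span {t}) (k + 1) M) := coequalizer.π_epi
  refine { exact := ShortComplex.exact_of_g_is_cokernel _ ?_ }
  have h : ∀ {N : X.Modules} (φ : M ⟶ N), Formal.smulMod A M (t ^ (k + 1)) ≫ φ = 0 →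
      ∃ ψ, Formal.modPowπ (Ideal.span {t}) (k + 1) M ≫ ψ = φ := fun φ hφ => by
    refine ⟨cokernel.desc _ φ ?_, cokernel.π_desc _ _ _⟩
    apply Sigma.hom_ext
    rintro ⟨a, ha⟩
    rw [comp_zero, ← Category.assoc, Formal.smulFamily, Sigma.ι_desc]
    rw [Ideal.span_singleton_pow, Ideal.mem_span_singleton'] at ha
    obtain ⟨b, rfl⟩ := ha
    show Formal.smulMod A M (b * t ^ (k + 1)) ≫ φ = 0
    rw [mul_comm, PunctAlg.smulMod_mul, Category.assoc, hφ, comp_zero]
  exact CokernelCofork.IsColimit.ofπ _ _ (fun φ hφ => (h φ hφ).choose) (fun φ hφ => (h φ hφ).choose_spec)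
    (fun φ hφ m hm => (cancel_epi (Formal.modPowπ (Ideal.span {t}) (k + 1) M)).1
      (hm.trans (h φ hφ).choose_spec.symm))

/-- The transition between two of these sequences. -/
def tSeqMap (k : ℕ) : tSeq t M (k + 1) ⟶ tSeq t M k where
  τ₁ := Formal.smulMod A M t
  τ₂ := 𝟙 _
  τ₃ := Formal.modPowTrans (Ideal.span {t}) (k + 1) M
  comm₁₂ := by
    show Formal.smulMod A M t ≫ Formal.smulMod A M (t ^ (k + 1)) = Formal.smulMod A M (t ^ (k + 1 + 1)) ≫ 𝟙 _
    rw [Category.comp_id, ← PunctAlg.smulMod_mul, ← pow_succ]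
  comm₂₃ := (Category.id_comp _).trans (Formal.modPowπ_trans _ _ _).symm

variable {t M}

theorem mem_smul_top_of_map_eq_zero [Mono (Formal.smulMod A M t)] (i k : ℕ) (x : Coh.HH X M i)
    (hx : Formal.toHHmodPow (Ideal.span {t}) M i k x = 0) :
    x ∈ (Ideal.span {t} ^ (k + 1) • ⊤ : Submodule A (Coh.HH X M i)) := by
  obtain ⟨y, hy⟩ := exists_of_mapLin_eq_zero (A := A) (tSeq_shortExact t M k) i (x := x) hx
  have hy' : t ^ (k + 1) • y = x := hy
  rw [← hy']
  exact Submodule.smul_mem_smul (Ideal.pow_mem_pow (Ideal.mem_span_singleton_self t) _) Submodule.mem_top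

variable [IsNoetherianRing A] [IsAdicComplete (Ideal.span {t}) A]

/-- Injectivity into the formal limit. -/
theorem toHHlim_injective [Mono (Formal.smulMod A M t)] (i : ℕ) [Module.Finite A (Coh.HH X M i)] :
    Function.Injective (Formal.toHHlim (Ideal.span {t}) M i) := by
  haveI := Adic7.isAdicComplete_of_finite (I := Ideal.span {t}) (Coh.HH X M i)
  refine (injective_iff_map_eq_zero _).2 fun x hx => ?_
  refine IsHausdorff.haus (I := Ideal.span {t}) inferInstance x fun k => ?_
  rw [SModEq.zero]
  refine Submodule.smul_mono_left (Ideal.pow_le_pow_right (Nat.le_succ k)) ?_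
  exact mem_smul_top_of_map_eq_zero i k x (congrFun (congrArg Subtype.val hx) k)

omit [IsAdicComplete (Ideal.span {t}) A] in
theorem exists_bound_torsion {H : Type*} [AddCommGroup H] [Module A H] [Module.Finite A H] (t : A) :
    ∃ c : ℕ, ∀ (x : H) (k : ℕ), t ^ k • x = 0 → t ^ c • x = 0 := by
  let K : ℕ →o Submodule A H := ⟨fun k => LinearMap.ker (t ^ k • (LinearMap.id : H →ₗ[A] H)),
    monotone_nat_of_le_succ fun k x hx => by
      have h : t ^ k • x = 0 := hx
      show t ^ (k + 1) • x = 0
      rw [pow_succ', mul_smul, h, smul_zero]⟩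
  obtain ⟨c, hc⟩ := monotone_stabilizes_iff_noetherian.2 (isNoetherian_of_isNoetherianRing_of_finite A H) K
  refine ⟨c, fun x k hx => ?_⟩
  rcases le_total k c with hkc | hkc
  · exact K.monotone hkc (show x ∈ K k from hx)
  · exact (hc k hkc).ge (show x ∈ K k from hx)

/-- Surjectivity onto the formal limit. -/
theorem toHHlim_surjective [Mono (Formal.smulMod A M t)] (i : ℕ) [Module.Finite A (Coh.HH X M i)]
    [Module.Finite A (Coh.HH X M (i + 1))] :
    Function.Surjective (Formal.toHHlim (Ideal.span {t}) M i) := by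
  haveI := Adic7.isAdicComplete_of_finite (I := Ideal.span {t}) (Coh.HH X M i)
  rintro ⟨z, hz⟩
  let w : ℕ → Coh.HH X M (i + 1) := fun k => PnCoh.Finite.deltaLin A (tSeq_shortExact t M k) i (z k)
  have hw : ∀ k, w k = t • w (k + 1) := fun k => by
    have h := δ_natural' (A := A) (tSeq_shortExact t M (k + 1)) (tSeq_shortExact t M k) (tSeqMap t M k) i (z (k + 1))
    exact ((congrArg (PnCoh.Finite.deltaLin A (tSeq_shortExact t M k) i) (hz k)).symm.trans h)
  have hw' : ∀ j k, w k = t ^ j • w (k + j) := fun j => by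
    induction j with
    | zero => intro k; rw [pow_zero, one_smul]; rfl
    | succ j ih => intro k; rw [ih k, hw (k + j), ← mul_smul, ← pow_succ]; rfl
  have hkill : ∀ k, t ^ (k + 1) • w k = 0 := fun k => by
    rw [← map_smul]
    have h0 : t ^ (k + 1) • z k = 0 := by
      refine FFun.smul_HH_eq_zero (T := Formal.modPow (Ideal.span {t}) (k + 1) M) ?_ i (z k)
      exact FFun.le_killIdeal_modJ (Ideal.span {t} ^ (k + 1)) M
        (Ideal.pow_mem_pow (Ideal.mem_span_singleton_self t) _)
    exact (congrArg _ h0).trans (map_zero _)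
  obtain ⟨c, hc⟩ := exists_bound_torsion (A := A) (H := Coh.HH X M (i + 1)) t
  have hb : ∀ k, ∃ x : Coh.HH X M i, Formal.toHHmodPow (Ideal.span {t}) M i k x = z k := fun k =>
    PnCoh.Finite.exists_of_deltaLin_eq_zero A (tSeq_shortExact t M k) i
      ((hw' c k).trans (hc _ _ (hkill (k + c))))
  choose b hb using hb
  have htrans : ∀ k x, Formal.HHmodPowTrans (Ideal.span {t}) M i k (Formal.toHHmodPow (Ideal.span {t}) M i (k + 1) x) =
      Formal.toHHmodPow (Ideal.span {t}) M i k x := fun k x => (Formal.toHHlim (Ideal.span {t}) M i x).2 k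
  have hstep : ∀ k, b (k + 1) - b k ∈ (Ideal.span {t} ^ (k + 1) • ⊤ : Submodule A (Coh.HH X M i)) := fun k => by
    refine mem_smul_top_of_map_eq_zero i k _ ?_
    rw [map_sub, sub_eq_zero, hb k, ← hz k, ← hb (k + 1), htrans]
  have hcauchy : ∀ m n, m ≤ n → b n - b m ∈ (Ideal.span {t} ^ (m + 1) • ⊤ : Submodule A (Coh.HH X M i)) :=
    fun m n hmn => by
      induction n, hmn using Nat.le_induction with
      | base => rw [sub_self]; exact Submodule.zero_mem _
      | succ n hn ih =>
        rw [← sub_add_sub_cancel (b (n + 1)) (b n) (b m)]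
        exact Submodule.add_mem _ (Submodule.smul_mono_left (Ideal.pow_le_pow_right (by omega)) (hstep n)) ih
  obtain ⟨L, hL⟩ := IsPrecomplete.prec (I := Ideal.span {t}) inferInstance (f := b) (fun {m n} hmn => by
    rw [SModEq.sub_mem, ← neg_sub]
    exact neg_mem (Submodule.smul_mono_left (Ideal.pow_le_pow_right (Nat.le_succ m)) (hcauchy m n hmn)))
  refine ⟨L, Subtype.ext (funext fun k => ?_)⟩
  show Formal.toHHmodPow (Ideal.span {t}) M i k L = z k
  have h3 := hL (k + 1)
  rw [SModEq.sub_mem] at h3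
  have h4 : L - b k ∈ (Ideal.span {t} ^ (k + 1) • ⊤ : Submodule A (Coh.HH X M i)) := by
    rw [show L - b k = (b (k + 1) - b k) - (b (k + 1) - L) by abel]
    exact Submodule.sub_mem _ (hstep k) h3
  rw [← hb k, ← sub_eq_zero, ← map_sub]
  refine Submodule.smul_induction_on (p := fun v => Formal.toHHmodPow (Ideal.span {t}) M i k v = 0) h4
    (fun r hr x _ => ?_) fun x x' hx hx' => by rw [map_add, hx, hx', add_zero]
  show PnCoh.Finite.mapLin A (Formal.modPowπ (Ideal.span {t}) (k + 1) M) i (r • x) = 0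
  rw [map_smul]
  exact FFun.smul_HH_eq_zero (FFun.le_killIdeal_modJ (Ideal.span {t} ^ (k + 1)) M hr) i _

omit [IsAdicComplete (Ideal.span {t}) A] in
/-- Finiteness of higher cohomology on the open. -/
theorem finite_HH_succ (a : Ideal A) : ∀ (i : ℕ) (N : ModuleCat.{u} A),
    Module.Finite A ((localCohomology a (i + 2)).obj N) →
    Module.Finite A (Coh.HH ((LocCoh.puncturedOpen A a : (Spec (CommRingCat.of A)).Opens) : Scheme.{u})
      (PhiU a N) (i + 1)) := by
  intro i
  induction i with
  | zero => exact fun N h => finite_HH1 a N h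
  | succ i ih =>
    intro N h
    let S : ShortComplex (ModuleCat.{u} A) := ShortComplex.mk (Injective.ι N) (cokernel.π _) (cokernel.condition _)
    have hS : S.ShortExact := { exact := ShortComplex.exact_cokernel (Injective.ι N) }
    haveI : PreservesFiniteLimits (tilde.functor (CommRingCat.of A)) :=
      QCoh.tilde_preservesFiniteLimits (R := CommRingCat.of A)
    haveI : PreservesFiniteColimits (tilde.functor (CommRingCat.of A)) :=
      QCoh.tilde_preservesFiniteColimits (R := CommRingCat.of A)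
    have hT : (S.map (H1Punct.Φ (LocCoh.puncturedOpen A a))).ShortExact := hS.map_of_exact _
    haveI : Injective S.X₂ := inferInstanceAs (Injective (Injective.under N))
    have h3 : Module.Finite A ((localCohomology a (i + 2)).obj S.X₃) := by
      haveI := LC.subsingleton_of_injective a S.X₂ (i + 1)
      haveI : Module.Finite A ((localCohomology a (i + 1 + 2)).obj S.X₁) := h
      refine Module.Finite.of_injective (LC.δH a (i + 2) hS (i + 1 + 2) rfl) ((injective_iff_map_eq_zero _).2 fun z hz => ?_)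
      obtain ⟨w, rfl⟩ := (LC.exact₃ a (i + 2) hS (i + 1 + 2) rfl z).1 hz
      rw [Subsingleton.elim (α := (localCohomology a (i + 2)).obj S.X₂) w 0, map_zero]
    haveI : Module.Finite A (Coh.HH ((LocCoh.puncturedOpen A a : (Spec (CommRingCat.of A)).Opens) : Scheme.{u})
        (S.map (H1Punct.Φ (LocCoh.puncturedOpen A a))).X₃ (i + 1)) := ih S.X₃ h3
    refine Module.Finite.of_surjective (PnCoh.Finite.deltaLin A hT (i + 1)) ?_
    refine QCoh.Ab.connecting_surjective (QCoh.toAb_shortExact hT) (i + 1) ?_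
    obtain ⟨e⟩ := S0356.result A a (S.X₂ : Type u) (i + 1 + 1) (Nat.le_add_left 1 _)
    haveI := LC.subsingleton_of_injective a S.X₂ (i + 1 + 1)
    exact e.toEquiv.subsingleton

end Groth.Agent.GradExt
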