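import Groth.Agent.GradExt.QReg
import Mathlib

/-!
# Generators of the powers of the maximal ideal are independent on flat modules
-/

set_option autoImplicit false
set_option linter.style.haveILetI false

universe u

open TensorProduct IsLocalRing

namespace Groth.Agent.GradExt

/-- Lifts of a basis of a graded piece of a local ring. -/
theorem exists_indep_gens_flat {R : Type u} [CommRing R] [IsNoetherianRing R] [IsLocalRing R] (d : ℕ) :
    ∃ (s : ℕ) (b : Fin s → R), Submodule.span R (Set.range b) = maximalIdeal R ^ d ∧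
      ∀ (M : Type u) [AddCommGroup M] [Module R M] [Module.Flat R M],
        Indep (maximalIdeal R) d b (RingHom.id R) M := by
  classical
  let m := maximalIdeal R
  let P := ↥(m ^ d)
  let N : Submodule R P := m • ⊤
  letI : Field (R ⧸ m) := Ideal.Quotient.field m
  haveI : Module.Finite (R ⧸ m) (P ⧸ N) := Module.Finite.of_restrictScalars_finite R _ _
  let e := Module.finBasis (R ⧸ m) (P ⧸ N)
  choose β hβ using fun j => Submodule.Quotient.mk_surjective N (e j)
  have hspan : Submodule.span R (Set.range β) = ⊤ := by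
    refine top_unique (Submodule.le_of_le_smul_of_le_jacobson_bot Module.Finite.fg_top
      (maximalIdeal_le_jacobson ⊥) fun v _ => ?_)
    obtain ⟨c, hc⟩ : ∃ c : Fin (Module.finrank (R ⧸ m) (P ⧸ N)) → R ⧸ m, ∑ j, c j • e j = N.mkQ v := ⟨_, e.sum_repr _⟩
    choose a ha using fun j => Ideal.Quotient.mk_surjective (c j)
    have hv : v - ∑ j, a j • β j ∈ N := by
      rw [← Submodule.Quotient.mk_eq_zero]
      show N.mkQ (v - ∑ j, a j • β j) = 0
      rw [map_sub, sub_eq_zero, map_sum, ← hc]
      refine Finset.sum_congr rfl fun j _ => ?_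
      rw [map_smul, ← ha j]
      exact congrArg (a j • ·) (hβ j).symm
    exact Submodule.mem_sup.2 ⟨_, Submodule.sum_mem _ fun j _ =>
      Submodule.smul_mem _ (a j) (Submodule.subset_span ⟨j, rfl⟩), _, hv, add_sub_cancel _ _⟩
  refine ⟨_, fun j => (β j : R), ?_, fun M _ _ _ w hw j => ?_⟩
  · have h := congrArg (Submodule.map (m ^ d).subtype) hspan
    rw [Submodule.map_span, ← Set.range_comp, Submodule.map_top, Submodule.range_subtype] at h
    exact h
  · rw [Ideal.map_id] at hw ⊢
    let T : P ⊗[R] M →ₗ[R] M := (TensorProduct.lid R M).toLinearMap ∘ₗ (m ^ d).subtype.rTensor M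
    have hT : Function.Injective T :=
      (TensorProduct.lid R M).injective.comp
        (Module.Flat.rTensor_preserves_injective_linearMap _ (m ^ d).injective_subtype)
    have hTt : ∀ (p : P) (v : M), T (p ⊗ₜ[R] v) = (p : R) • v := fun p v => by simp [T]
    let c : P →ₗ[R] R ⧸ m := (e.coord j).restrictScalars R ∘ₗ N.mkQ
    let L : P ⊗[R] M →ₗ[R] M ⧸ (m • ⊤ : Submodule R M) := TensorProduct.lift
      (LinearMap.mk₂ R (fun p v => c p • Submodule.Quotient.mk v)
        (fun p q v => by rw [map_add, add_smul])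
        (fun r p v => by rw [map_smul, smul_assoc])
        (fun p u v => by rw [Submodule.Quotient.mk_add, smul_add])
        (fun r p v => by rw [Submodule.Quotient.mk_smul, smul_comm]))
    have hL : ∀ (p : P) (v : M), L (p ⊗ₜ[R] v) = c p • Submodule.Quotient.mk v := fun p v => rfl
    have hcβ : ∀ i, c (β i) = if i = j then 1 else 0 := fun i => by
      show e.coord j (N.mkQ (β i)) = _
      rw [show N.mkQ (β i) = e i from hβ i, Module.Basis.coord_apply, e.repr_self, Finsupp.single_apply]
    obtain ⟨t, ht, ht0⟩ : ∃ t : P ⊗[R] M, T t = ∑ i, (RingHom.id R) (β i : R) • w i ∧ L t = 0 := by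
      refine Submodule.smul_induction_on hw (fun a ha v _ => ?_) ?_
      · have had : a ∈ m ^ d := Ideal.pow_le_pow_right (Nat.le_succ d) ha
        refine ⟨(⟨a, had⟩ : P) ⊗ₜ[R] v, hTt _ v, ?_⟩
        have hN : (⟨a, had⟩ : P) ∈ N := by
          have e1 : (m • ⊤ : Submodule R P).map (m ^ d).subtype = m ^ (d + 1) := by
            rw [Submodule.map_smul'', Submodule.map_top, Submodule.range_subtype, smul_eq_mul, ← pow_succ']
          obtain ⟨y, hy, hya⟩ := e1.ge ha
          rwa [show (⟨a, had⟩ : P) = y from Subtype.ext hya.symm]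
        rw [hL, show c ⟨a, had⟩ = 0 by
          show e.coord j (N.mkQ ⟨a, had⟩) = 0
          rw [Submodule.mkQ_apply, (Submodule.Quotient.mk_eq_zero N).2 hN, map_zero], zero_smul]
      · rintro p q ⟨t₁, h₁, h₁'⟩ ⟨t₂, h₂, h₂'⟩
        exact ⟨t₁ + t₂, by rw [map_add, h₁, h₂], by rw [map_add, h₁', h₂', add_zero]⟩
    have he : t = ∑ i, β i ⊗ₜ[R] w i := hT (by
      rw [ht, map_sum]
      exact Finset.sum_congr rfl fun i _ => (hTt _ _).symm)
    rw [he, map_sum] at ht0
    simp only [hL, hcβ, ite_smul, one_smul, zero_smul, Finset.sum_ite_eq', Finset.mem_univ, if_true] at ht0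
    exact (Submodule.Quotient.mk_eq_zero _).1 ht0

end Groth.Agent.GradExt
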