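import Groth.Agent.GradExt.Finite
import Groth.Agent.LefPunct2.Depth
import Groth.Agent.S2930

/-!
# Coherent regular systems along a principal divisor
-/

set_option autoImplicit false
set_option linter.style.haveILetI false
set_option linter.unusedSectionVars false
set_option backward.isDefEq.respectTransparency false
set_option backward.isDefEq.respectTransparency.types false

universe u

open CategoryTheory CategoryTheory.Limits AlgebraicGeometry TopologicalSpace Opposite

noncomputable section

namespace Groth.Agent.GradExt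

open Groth.Agent Groth.Agent.PunctAlg

/-- Multiplication by a global function on stalks. -/
theorem stalk_smulModΓ {X : Scheme.{u}} (M : X.Modules) (r : Γ(X, ⊤)) (x : X)
    (v : (DerSch.stalkFunctor X x).obj M) :
    (DerSch.stalkFunctor X x).map (Formal.smulModΓ M r) v = X.presheaf.germ ⊤ x trivial r • v := by
  obtain ⟨V, hV, s, rfl⟩ := TopCat.Presheaf.exists_germ_eq M.presheaf v
  refine (DerSch.stalkFunctor_map_germ x _ V hV s).trans ?_
  refine (congrArg (M.presheaf.germ V x hV) (show (Formal.smulModΓ M r).app V s =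
    X.presheaf.map (homOfLE (le_top (a := V))).op r • s from rfl)).trans ?_
  rw [QCoh.germ_smul' M hV]
  exact congrArg (fun c => c • M.presheaf.germ V x hV s)
    (X.presheaf.germ_res_apply (homOfLE (le_top (a := V))) x hV _)

/-- Kernel equal to image, on stalks. -/
theorem exists_of_kernel_eq_image {X : Scheme.{u}} (M : X.Modules) (r s : Coh.Γtop X)
    (h : kernelSubobject (Formal.smulModΓ M s) = imageSubobject (Formal.smulModΓ M r)) (x : X)
    (v : (DerSch.stalkFunctor X x).obj M) (hv : X.presheaf.germ ⊤ x trivial s • v = 0) :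
    ∃ v', X.presheaf.germ ⊤ x trivial r • v' = v := by
  have hz : Formal.smulModΓ M r ≫ Formal.smulModΓ M s = 0 := by
    rw [← imageSubobject_arrow_comp (Formal.smulModΓ M r), ← Subobject.ofLE_arrow h.ge, Category.assoc,
      Category.assoc, kernelSubobject_arrow_comp, comp_zero, comp_zero]
  have hS : (ShortComplex.mk _ _ hz).Exact := (ShortComplex.exact_iff_image_eq_kernel _).2 h.symm
  obtain ⟨v', hv'⟩ := (ShortComplex.moduleCat_exact_iff _).1 (hS.map (DerSch.stalkFunctor X x)) v
    ((stalk_smulModΓ M s x v).trans hv)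
  exact ⟨v', (stalk_smulModΓ M r x v').symm.trans hv'⟩

/-- An algebraization of the direct images algebraizes a coherent system. -/
theorem nonempty_completionMod_of_isCoh {A : Type u} [CommRing A] [IsNoetherianRing A]
    (U : (Spec (CommRingCat.of A)).Opens) (J : Ideal A)
    (𝔐 : FSch.ModSys (FSch.completionAlong U.toScheme (idOn U J))) (hcoh : 𝔐.IsCoh)
    {F : U.toScheme.Modules} (hF : Coh.IsCoh F) (c : Formal.completion J F ≅ pSys U J 𝔐) :
    Nonempty (FSch.completionMod (idOn U J) F ≅ 𝔐) := by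
  haveI := isLocNoeth U
  haveI := isClosedImmersion_toX U J
  obtain ⟨a, ha⟩ := FModLib.nonempty_iso_sysOf (FSch.completionToX U.toScheme (idOn U J))
    (FSch.completionToX_comm U.toScheme (idOn U J)) (ker_toX U J) hF.1 𝔐 hcoh c
  rw [FormalAlg.complMod_eq_completionMod, FModLib.complMod_eq_sysOf]
  exact FormalAlg.nonempty_iso_of_app ⟨fun n => (a n).hom, ha⟩ fun n => inferInstance

variable {A : Type u} [CommRing A] [IsNoetherianRing A] (U : (Spec (CommRingCat.of A)).Opens) (t : A)

/-- Regularity of the element on a system: in each level killed by a power means divisible. -/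
def IsRegSys (𝔐 : FSch.ModSys (FSch.completionAlong U.toScheme (idOn U (Ideal.span {t})))) : Prop :=
  ∀ N : ℕ, 1 ≤ N → kernelSubobject (Formal.smulModΓ (𝔐.F N)
      ((((FSch.completionToX U.toScheme (idOn U (Ideal.span {t})) N) ≫ U.ι).appTop.hom
        ((Scheme.ΓSpecIso (CommRingCat.of A)).inv t)) ^ N)) =
    imageSubobject (Formal.smulModΓ (𝔐.F N)
      (((FSch.completionToX U.toScheme (idOn U (Ideal.span {t})) N) ≫ U.ι).appTop.hom
        ((Scheme.ΓSpecIso (CommRingCat.of A)).inv t)))

variable (𝔐 : FSch.ModSys (FSch.completionAlong U.toScheme (idOn U (Ideal.span {t})))) (hcoh : 𝔐.IsCoh)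

theorem exists_div (hreg : IsRegSys U t 𝔐) (n : ℕ) (x : U.toScheme)
    (w : (DerSch.stalkFunctor U.toScheme x).obj ((pSys U (Ideal.span {t}) 𝔐).obj (op (n + 1))))
    (hw : germA U x (t ^ (n + 1)) • w = 0) :
    ∃ w' : (DerSch.stalkFunctor U.toScheme x).obj ((pSys U (Ideal.span {t}) 𝔐).obj (op (n + 1))),
      germA U x t • w' = w := by
  let i := (idOn U (Ideal.span {t}) ^ (n + 1 + 1)).subschemeι
  let F : (idOn U (Ideal.span {t}) ^ (n + 1 + 1)).subscheme.Modules := 𝔐.F (n + 1)
  by_cases hx : x ∈ Set.range i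
  · obtain ⟨z, rfl⟩ := hx
    let r : Γ((idOn U (Ideal.span {t}) ^ (n + 1 + 1)).subscheme, ⊤) :=
      (i ≫ U.ι).appTop.hom ((Scheme.ΓSpecIso (CommRingCat.of A)).inv t)
    let e := ExtShX.stalkPushEquiv i F z
    have hes : ∀ c v, e (c • v) = (i.stalkMap z).hom c • e v := ExtShX.stalkPushEquiv_smul i F z
    have hσ : (i.stalkMap z).hom (germA U (i z) t) =
        (idOn U (Ideal.span {t}) ^ (n + 1 + 1)).subscheme.presheaf.germ ⊤ z trivial r := by
      rw [germA, toGlobal_opens]
      exact Scheme.Hom.germ_stalkMap_apply i ⊤ z trivial _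
    have h1 := congrArg e hw
    have hp : germA U (i z) (t ^ (n + 1)) = germA U (i z) t ^ (n + 1) := by rw [germA, map_pow, map_pow]
    rw [hp, hes, map_pow, hσ, ← map_pow, map_zero] at h1
    obtain ⟨v, hv⟩ := exists_of_kernel_eq_image F r (r ^ (n + 1)) (hreg (n + 1) (Nat.succ_pos n)) z (e w) h1
    refine ⟨e.symm v, e.injective ?_⟩
    refine (hes _ _).trans ?_
    rw [AddEquiv.apply_symm_apply, hσ]
    exact hv
  · haveI := H23.ClosedPushLen.subsingleton_stalk (f := i) F hx
    haveI : Subsingleton ((DerSch.stalkFunctor U.toScheme x).obj ((Scheme.Modules.pushforward i).obj F)) :=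
      inferInstanceAs (Subsingleton (((Scheme.Modules.pushforward i).obj F).presheaf.stalk x))
    exact ⟨w, Subsingleton.elim
      (α := (DerSch.stalkFunctor U.toScheme x).obj ((Scheme.Modules.pushforward i).obj F)) _ _⟩

/-- Regular systems have kernels spanned by the bottom level. -/
theorem isSpanned_regular (hG : Formal.IsCohFormal (Ideal.span {t}) (pSys U (Ideal.span {t}) 𝔐))
    (hreg : IsRegSys U t 𝔐) : IsSpanned hG := by
  intro n
  let b : Fin 1 → ↥(Ideal.span {t} ^ (n + 1)) :=
    fun _ => ⟨t ^ (n + 1), Ideal.pow_mem_pow (Ideal.mem_span_singleton_self t) _⟩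
  have hb : Submodule.span A (Set.range b) = ⊤ := eq_top_iff.2 fun v _ => by
    have hv : (v : A) ∈ Ideal.span {t ^ (n + 1)} := (Ideal.span_singleton_pow t (n + 1)).le v.2
    obtain ⟨c, hc⟩ := Ideal.mem_span_singleton'.1 hv
    exact (Submodule.mem_span_range_iff_exists_fun A).2 ⟨fun _ => c, Subtype.ext (by simp [b, hc])⟩
  let f := psi hG n (b 0)
  haveI : Epi f := ⟨fun g g' h => hom_ext_K hG b hb fun j => by rw [Subsingleton.elim j 0]; exact h⟩
  haveI : Mono f := HomShX.mono_of_stalk _ fun x => (injective_iff_map_eq_zero _).2 fun v hv => by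
    let S := DerSch.stalkFunctor U.toScheme x
    haveI := Algz7.epi_tr hG (Nat.zero_le (n + 1))
    obtain ⟨w, hw⟩ := (ModuleCat.epi_iff_surjective _).1
      (inferInstance : Epi (S.map (ARSys.tr (pSys U (Ideal.span {t}) 𝔐) (Nat.zero_le (n + 1))))) v
    have h0 : germA U x (t ^ (n + 1)) • w = 0 := by
      rw [← stalk_smulMod, ← tr_psi hG n (b 0), Functor.map_comp, Functor.map_comp, ConcreteCategory.comp_apply,
        ConcreteCategory.comp_apply]
      refine (congrArg _ (congrArg _ hw)).trans ?_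
      exact (congrArg _ hv).trans (map_zero _)
    obtain ⟨w', rfl⟩ := exists_div U t 𝔐 hreg n x w h0
    rw [← hw, map_smul]
    refine (stalk_smulMod U _ t x _).symm.trans ?_
    rw [hG.2.1 0 t (by rw [pow_one]; exact Ideal.mem_span_singleton_self t), Functor.map_zero]
    rfl
  haveI : IsIso f := isIso_of_mono_of_epi f
  refine ⟨1, b, fun _ => inv f, ?_⟩
  rw [Fin.sum_univ_one]
  exact IsIso.inv_hom_id f

set_option maxHeartbeats 800000 in
include hcoh in
/-- A regular coherent system with depth two along codimension one is algebraic. -/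
theorem exists_completionMod_iso_regular (R : Type u) [CommRing R] [IsRegularRing R] (π : R →+* A)
    (hπ : Function.Surjective π) [IsAdicComplete (Ideal.span {t}) A] (a : Ideal A)
    (hU : U = LocCoh.puncturedOpen A a) (hreg : IsRegSys U t 𝔐)
    (hdepth : ∀ z : (FSch.completionAlong U.toScheme (idOn U (Ideal.span {t}))).X 0,
      (∃ q : PrimeSpectrum A, a ≤ q.asIdeal ∧
        CovBy (α := PrimeSpectrum A) ((FSch.completionToX U.toScheme (idOn U (Ideal.span {t})) 0 ≫ U.ι).base z) q) →
      (2 : ℕ∞) ≤ LocCoh.depth (((FSch.completionAlong U.toScheme (idOn U (Ideal.span {t}))).X 0).presheaf.stalk z)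
        ((𝔐.F 0).presheaf.stalk z)) :
    ∃ F : U.toScheme.Modules, Coh.IsCoh F ∧ Nonempty (FSch.completionMod (idOn U (Ideal.span {t})) F ≅ 𝔐) := by
  subst hU
  let U : (Spec (CommRingCat.of A)).Opens := LocCoh.puncturedOpen A a
  haveI := isLocNoeth U
  haveI := isClosedImmersion_toX U (Ideal.span {t})
  have hG : Formal.IsCohFormal (Ideal.span {t}) (pSys U (Ideal.span {t}) 𝔐) :=
    FModLib.isCohFormal_pushSys _ _ (FComplLib.isLocNoethFormal_completionAlong (idOn U (Ideal.span {t}))).2.2
      (ker_toX U (Ideal.span {t})) 𝔐 hcoh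
  let G0 := (pSys U (Ideal.span {t}) 𝔐).obj (op 0)
  obtain ⟨N, hN, ⟨e⟩⟩ := exists_PhiU a G0 (hG.1 0)
  have hfin := (S2930.result R A π hπ a N 2).2 fun p q hp hq hpq => by
    let x : U.toScheme := ⟨p, hp⟩
    refine le_trans (b := LocCoh.depth (U.toScheme.presheaf.stalk x)
      ((DerSch.stalkFunctor U.toScheme x).obj (phi U N))) ?_ (LefPunct2.depth_stalk_phi U N x).le
    let Φ := ((DerSch.stalkFunctor U.toScheme x).mapIso e).toLinearEquiv
    refine le_trans ?_ (Alg6.depth_eq_of_semilinear (RingHom.id (U.toScheme.presheaf.stalk x))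
      (fun r => ⟨r, rfl⟩) Φ.toAddEquiv fun r v => map_smul Φ r v).ge
    let i := (idOn U (Ideal.span {t}) ^ (0 + 1)).subschemeι
    let F0 : (idOn U (Ideal.span {t}) ^ (0 + 1)).subscheme.Modules := 𝔐.F 0
    by_cases hx : x ∈ Set.range i
    · obtain ⟨z, hz⟩ := hx
      rw [← hz]
      refine (hdepth z ⟨q, hq, ?_⟩).trans_eq (Alg6.depth_eq_of_semilinear (i.stalkMap z).hom
        (i.stalkMap_surjective z) (ExtShX.stalkPushEquiv i F0 z) (ExtShX.stalkPushEquiv_smul i F0 z)).symm
      show CovBy (α := PrimeSpectrum A) (U.ι (i z)) q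
      rw [hz]
      exact hpq
    · haveI := H23.ClosedPushLen.subsingleton_stalk (f := i) F0 hx
      haveI : Subsingleton ((DerSch.stalkFunctor U.toScheme x).obj G0) :=
        inferInstanceAs (Subsingleton (((Scheme.Modules.pushforward i).obj F0).presheaf.stalk x))
      rw [LocCoh.depth, LocCoh.idealDepth, if_pos (Subsingleton.elim _ _)]
      exact le_top
  have h0' : Module.Finite A ((secF U).obj G0) := by
    haveI := finite_secF a N (hfin 1 one_le_two)
    exact Module.Finite.equiv ((secF U).mapIso e).toLinearEquiv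
  have h1' : Module.Finite A (Coh.HH (U : Scheme.{u}) G0 1) := by
    haveI := finite_HH1 a N (hfin 2 le_rfl)
    exact Module.Finite.of_surjective (PnCoh.Finite.mapLin A e.hom 1) fun z =>
      ⟨PnCoh.Finite.mapLin A e.inv 1 z, by
        refine (FFun.mapLin_comp _ _ 1 z).trans ((FFun.mapLin_congr e.inv_hom_id 1 z).trans ?_)
        show Sheaf.H.map ((QCoh.toAbFunctor U.toScheme).map (𝟙 G0)) 1 z = z
        rw [CategoryTheory.Functor.map_id, Sheaf.H.map_id_apply]⟩
  have hS := isSpanned_regular U t 𝔐 hG hreg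
  obtain ⟨F, hF, ⟨c⟩⟩ := exists_algebraization U hG hS h0' h1'
  exact ⟨F, hF, nonempty_completionMod_of_isCoh U (Ideal.span {t}) 𝔐 hcoh hF c⟩


omit [IsNoetherianRing A] in
/-- The union of the basic opens of the elements of an ideal. -/
theorem iSup_basicOpen_eq (I : Ideal A) :
    (⨆ f : ↥I, (Spec (CommRingCat.of A)).basicOpen ((Scheme.ΓSpecIso (CommRingCat.of A)).inv f.1)) =
      LocCoh.puncturedOpen A I := by
  ext x
  simp only [SetLike.mem_coe, Opens.mem_iSup]
  have hbo : ∀ f : A, x ∈ (Spec (CommRingCat.of A)).basicOpen ((Scheme.ΓSpecIso (CommRingCat.of A)).inv f) ↔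
      f ∉ x.asIdeal := fun f => by
    rw [basicOpen_eq_of_affine (R := CommRingCat.of A) f]
    rfl
  show (∃ f : ↥I, _) ↔ x ∈ (PrimeSpectrum.zeroLocus (R := A) (I : Set A))ᶜ
  constructor
  · rintro ⟨f, hf⟩ h
    exact (hbo f.1).1 hf (h f.2)
  · intro h
    obtain ⟨f, hf, hfx⟩ := Set.not_subset.1 h
    exact ⟨⟨f, hf⟩, (hbo f).2 hfx⟩

end Groth.Agent.GradExt
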