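import Groth.Agent.GradExt.Finite
import Groth.Agent.LC.CdDim

/-!
# The Lefschetz condition when the graded ring is projective
-/

set_option autoImplicit false
set_option linter.style.haveILetI false
set_option linter.unusedSectionVars false
set_option backward.isDefEq.respectTransparency false
set_option backward.isDefEq.respectTransparency.types false

universe u

open CategoryTheory CategoryTheory.Limits AlgebraicGeometry TopologicalSpace Opposite

noncomputable section

namespace Groth.Agent.GradExt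

open Groth.Agent Groth.Agent.PunctAlg

variable {A : Type u} [CommRing A] [IsNoetherianRing A]

/-- Vanishing passes to retracts of powers of a module. -/
theorem subsingleton_H_retract (a J : Ideal A) (i : ℕ) (h : Subsingleton (LocCoh.H a i (A ⧸ J)))
    (P : Type u) [AddCommGroup P] [Module A P] {m : ℕ} (φ : P →ₗ[A] (Fin m → A ⧸ J))
    (s : (Fin m → A ⧸ J) →ₗ[A] P) (hs : ∀ x, s (φ x) = x) :
    Subsingleton ((localCohomology a i).obj (ModuleCat.of A P)) := by
  haveI : Subsingleton ((localCohomology a i).obj (ModuleCat.of A (A ⧸ J))) := h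
  let Q : ModuleCat.{u} A := ModuleCat.of A (Fin m → A ⧸ J)
  let π : Fin m → (Q ⟶ ModuleCat.of A (A ⧸ J)) := fun k => ModuleCat.ofHom (LinearMap.proj k)
  let ι : Fin m → (ModuleCat.of A (A ⧸ J) ⟶ Q) := fun k =>
    ModuleCat.ofHom (LinearMap.single A (fun _ : Fin m => A ⧸ J) k)
  have hid : ∑ k, π k ≫ ι k = 𝟙 Q := by
    refine ModuleCat.hom_ext (LinearMap.ext fun v => ?_)
    rw [ModuleCat.hom_sum, LinearMap.sum_apply]
    exact Finset.univ_sum_single (show Fin m → A ⧸ J from v)
  refine subsingleton_of_forall_eq 0 fun z => ?_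
  have hz := PunctAlg.smul_H_eq_zero a i (ModuleCat.ofHom φ : ModuleCat.of A P ⟶ Q) (ModuleCat.ofHom s) 1 1
    (ModuleCat.hom_ext (LinearMap.ext fun y => (hs y).trans (one_smul A y).symm)) (fun w => ?_) z
  · simpa using hz
  · have hsum : ∀ S : Finset (Fin m), (1 : A) • ((localCohomology a i).map (∑ k ∈ S, π k ≫ ι k)).hom w = 0 := by
      intro S
      induction S using Finset.cons_induction with
      | empty => rw [Finset.sum_empty, LC.smul_H_pi_eq_zero.map_zero_apply', smul_zero]
      | cons b S hb ih =>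
        rw [Finset.sum_cons, LC.smul_H_pi_eq_zero.map_add_apply', smul_add, ih, add_zero, Functor.map_comp,
          ModuleCat.comp_apply, Subsingleton.elim (((localCohomology a i).map (π b)).hom w) 0, map_zero, smul_zero]
    have h := hsum Finset.univ
    rw [hid, CategoryTheory.Functor.map_id] at h
    exact h

/-- Vanishing for the quotients by the powers of the ideal. -/
theorem subsingleton_H_pow (a J : Ideal A) (i : ℕ) (h : Subsingleton (LocCoh.H a i (A ⧸ J)))
    (hgr : ∀ n, Module.Projective (A ⧸ J) (↥(J ^ (n + 1)) ⧸ (J • (⊤ : Submodule A ↥(J ^ (n + 1)))))) :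
    ∀ n, Subsingleton (LocCoh.H a i (A ⧸ J ^ (n + 1))) := by
  intro n
  induction n with
  | zero =>
    exact (((localCohomology a i).mapIso
      (Submodule.quotEquivOfEq J (J ^ (0 + 1)) (by rw [zero_add, pow_one])).toModuleIso).toLinearEquiv.toEquiv.subsingleton_congr).1 h
  | succ n ih =>
    let N : Ideal A := J ^ (n + 1)
    let Q := ↥N ⧸ (J • (⊤ : Submodule A ↥N))
    haveI := hgr n
    haveI : Module.Finite (A ⧸ J) Q := Module.Finite.of_restrictScalars_finite A (A ⧸ J) Q
    obtain ⟨m, π, hπ⟩ := Module.Finite.exists_fin' (A ⧸ J) Q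
    obtain ⟨σ, hσ⟩ := Module.projective_lifting_property π LinearMap.id hπ
    have h1 : Subsingleton ((localCohomology a i).obj (ModuleCat.of A Q)) :=
      subsingleton_H_retract a J i h Q (σ.restrictScalars A) (π.restrictScalars A) fun x => LinearMap.congr_fun hσ x
    have hmem : ∀ x : ↥N, x ∈ J • (⊤ : Submodule A ↥N) ↔ (x : A) ∈ J ^ (n + 1 + 1) := fun x => by
      rw [mem_smul_top_iff, ← pow_succ']
    let f : Q →ₗ[A] A ⧸ J ^ (n + 1 + 1) :=
      Submodule.liftQ _ ((Submodule.mkQ (J ^ (n + 1 + 1))).comp N.subtype) fun x hx =>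
        (Submodule.Quotient.mk_eq_zero _).2 ((hmem x).1 hx)
    let g : (A ⧸ J ^ (n + 1 + 1)) →ₗ[A] A ⧸ N := Submodule.factor (Ideal.pow_le_pow_right (Nat.le_succ (n + 1)))
    let S : ShortComplex (ModuleCat.{u} A) := ShortComplex.mk (ModuleCat.ofHom f) (ModuleCat.ofHom g) (by
      refine ModuleCat.hom_ext (LinearMap.ext fun x => ?_)
      obtain ⟨x, rfl⟩ := Submodule.Quotient.mk_surjective _ x
      exact (Submodule.Quotient.mk_eq_zero _).2 x.2)
    haveI : Mono S.f := (ModuleCat.mono_iff_injective _).2 ((injective_iff_map_eq_zero _).2 fun x hx => by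
      obtain ⟨x, rfl⟩ := Submodule.Quotient.mk_surjective _ x
      exact (Submodule.Quotient.mk_eq_zero _).2 ((hmem x).2 ((Submodule.Quotient.mk_eq_zero _).1 hx)))
    haveI : Epi S.g := (ModuleCat.epi_iff_surjective _).2 (Submodule.factor_surjective (show J ^ (n + 1 + 1) ≤ N from Ideal.pow_le_pow_right (Nat.le_succ (n + 1))))
    have hex : S.Exact := (ShortComplex.moduleCat_exact_iff _).2 fun y hy => by
      obtain ⟨y, rfl⟩ := Submodule.Quotient.mk_surjective _ y
      exact ⟨(Submodule.Quotient.mk (⟨y, (Submodule.Quotient.mk_eq_zero N).1 hy⟩ : ↥N) : Q), rfl⟩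
    have hS : S.ShortExact := { exact := hex }
    exact LC.subsingleton_H_of_shortExact a hS i h1 ih

variable (a : Ideal A)

local notation "Ua" => LocCoh.puncturedOpen A a

/-- The Lefschetz property of the structure sheaf, from the depths of the quotients alone. -/
theorem homToFormal_structure (J : Ideal A) [IsAdicComplete J A]
    (h0 : ∀ n, Subsingleton (LocCoh.H a 0 (A ⧸ J ^ (n + 1))))
    (h1 : ∀ n, Subsingleton (LocCoh.H a 1 (A ⧸ J ^ (n + 1)))) :
    Lef.HomToFormalBijective (idOn Ua J) (Coh.structureModule (Ua : (Spec (CommRingCat.of A)).Opens).toScheme) := by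
  let O := Coh.structureModule (Ua : (Spec (CommRingCat.of A)).Opens).toScheme
  let red := fun n => (secF Ua).map (ClSub.toSubscheme (idOn Ua J ^ (n + 1)))
  have hs := fun n => sections_quot a (J ^ (n + 1)) (idOn Ua J ^ (n + 1))
    (fun W x hx => stI_idOn_pow Ua J n W hx) (h0 n) (h1 n)
  haveI := isIso_genS_bot a
  have hext : ∀ {M : (Ua : (Spec (CommRingCat.of A)).Opens).toScheme.Modules} (f g : O ⟶ M),
      (secF Ua).map f (oneS a) = (secF Ua).map g (oneS a) → f = g := fun f g h => S10945.hom_ext_top h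
  have htor : ∀ z : (secF Ua).obj O, ∃ k : ℕ, ∀ b ∈ a ^ k, ∃ r : A, b • z = r • oneS a := fun z => by
    obtain ⟨k, hk⟩ := eSec_coker a (ModuleCat.of A (A ⧸ (⊥ : Ideal A))) ((secF Ua).map (genS a ⊥) z)
    refine ⟨k, fun b hb => ?_⟩
    obtain ⟨m, hm⟩ := hk b hb
    obtain ⟨r, rfl⟩ := Ideal.Quotient.mk_surjective m
    refine ⟨r, secF_injective Ua (genS a ⊥) ?_⟩
    rw [map_smul, map_smul, secF_genS, ← map_smul (eSec a _).hom, smul_mk_one]
    exact hm.symm
  have hsep : ∀ z : (secF Ua).obj O, (∀ n, red n z = 0) → z = 0 := fun z hz => by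
    obtain ⟨k, hk⟩ := htor z
    refine secF_injective Ua (genS a (⊥ : Ideal A)) (Eq.trans ?_ (map_zero _).symm)
    refine secF_torsionFree a (ModuleCat.of A (A ⧸ (⊥ : Ideal A))) _ (n := k) fun b hb => ?_
    obtain ⟨r, hr⟩ := hk b hb
    have hmem : ∀ n, r ∈ J ^ (n + 1) := fun n => ((hs n).1 r).1 (by
      rw [← map_smul, ← hr, map_smul]
      exact (congrArg (b • ·) (hz n)).trans (smul_zero b))
    have h2 : r = 0 := IsHausdorff.haus (I := J) inferInstance r fun n => by
      rw [SModEq.zero, smul_eq_mul, Ideal.mul_top]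
      exact Ideal.pow_le_pow_right (Nat.le_succ n) (hmem n)
    rw [← map_smul, hr, h2, zero_smul, map_zero]
  refine ⟨fun φ ψ he => hext φ ψ (sub_eq_zero.1 (hsep _ fun n => ?_)), fun y hy => ?_⟩
  · rw [map_sub, sub_eq_zero]
    show (secF Ua).map _ _ = (secF Ua).map _ _
    rw [← ConcreteCategory.comp_apply, ← ConcreteCategory.comp_apply, ← Functor.map_comp, ← Functor.map_comp, he n]
  · choose r hr using fun n => (hs n).2 ((secF Ua).map (y n) (oneS a))
    have hstep : ∀ n, r (n + 1) - r n ∈ J ^ (n + 1) := fun n => ((hs n).1 _).1 (by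
      rw [sub_smul, sub_eq_zero, ← hr n, ← hy n, Functor.map_comp, ConcreteCategory.comp_apply, hr (n + 1),
        map_smul, ← ConcreteCategory.comp_apply, ← Functor.map_comp, LefLib.toSubscheme_quotMap])
    have hcauchy : ∀ m n, m ≤ n → r n - r m ∈ J ^ (m + 1) := fun m n hmn => by
      induction n, hmn using Nat.le_induction with
      | base => rw [sub_self]; exact Ideal.zero_mem _
      | succ n hn ih =>
        rw [← sub_add_sub_cancel (r (n + 1)) (r n) (r m)]
        exact Ideal.add_mem _ (Ideal.pow_le_pow_right (by omega) (hstep n)) ih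
    obtain ⟨L, hL⟩ := IsPrecomplete.prec (I := J) inferInstance (f := r) (fun {m n} hmn => by
      rw [SModEq.sub_mem, smul_eq_mul, Ideal.mul_top, ← neg_sub]
      exact neg_mem (Ideal.pow_le_pow_right (Nat.le_succ m) (hcauchy m n hmn)))
    refine ⟨InvX.ofSect (show Γ(O, ⊤) from L • oneS a), fun n => hext _ _ ?_⟩
    rw [Functor.map_comp, ConcreteCategory.comp_apply]
    show red n ((secF Ua).map (InvX.ofSect (show Γ(O, ⊤) from L • oneS a)) (oneS a)) = _
    rw [show (secF Ua).map (InvX.ofSect (show Γ(O, ⊤) from L • oneS a)) (oneS a) = L • oneS a from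
      InvX.one_ofSect _, map_smul, hr n, ← sub_eq_zero, ← sub_smul, (hs n).1]
    have h3 := hL (n + 1)
    rw [SModEq.sub_mem, smul_eq_mul, Ideal.mul_top] at h3
    rw [show L - r n = (r (n + 1) - r n) - (r (n + 1) - L) by ring]
    exact Ideal.sub_mem _ (hstep n) h3

/-- Both halves, for a projective graded ring and depth at least three. -/
theorem lef_and_algebraization (J : Ideal A) [IsAdicComplete J A]
    (hgr : ∀ n, Module.Projective (A ⧸ J) (↥(J ^ (n + 1)) ⧸ (J • (⊤ : Submodule A ↥(J ^ (n + 1))))))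
    (hvan : ∀ i < 2, Subsingleton (LocCoh.H a i (A ⧸ J)))
    (hfin : ∀ i ≤ 2, Module.Finite A (LocCoh.H a i (A ⧸ J)))
    (U : (Spec (CommRingCat.of A)).Opens) (hU : U = LocCoh.puncturedOpen A a) :
    (∀ D : U.toScheme.Modules, FlatMod.IsFinLocFree D → Lef.HomToFormalBijective (idOn U J) D) ∧
      ∀ 𝔐 : FSch.ModSys (FSch.completionAlong U.toScheme (idOn U J)), LefX.LevelwiseFinLocFree 𝔐 →
        ∃ F : U.toScheme.Modules, Coh.IsCoh F ∧ Nonempty (FSch.completionMod (idOn U J) F ≅ 𝔐) := by
  subst hU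
  haveI : IsNoetherianRing (CommRingCat.of A) := inferInstanceAs (IsNoetherianRing A)
  haveI : IsNoetherian (Spec (CommRingCat.of A)) := inferInstance
  haveI : CompactSpace ((Ua : (Spec (CommRingCat.of A)).Opens) : Scheme.{u}) :=
    isCompact_iff_compactSpace.1 (NoetherianSpace.isCompact (Ua : Set (Spec (CommRingCat.of A))))
  haveI : IsNoetherian ((Ua : (Spec (CommRingCat.of A)).Opens) : Scheme.{u}) := ⟨⟩
  haveI := isQuasiAffine_puncturedOpen a
  refine ⟨fun D hD => LefLib.homToFormal_of_quasiAffine (homToFormal_structure a J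
    (subsingleton_H_pow a J 0 (hvan 0 two_pos) hgr) (subsingleton_H_pow a J 1 (hvan 1 one_lt_two) hgr))
    (CurveDeg.isCoh_of_isFinLocFree hD), fun 𝔐 h => ?_⟩
  exact exists_completionMod_iso_puncturedOpen a J hfin hgr 𝔐 h

end Groth.Agent.GradExt
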